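import Groth.Agent.RaynaudGruson.Flattening.Affine
import Groth.Agent.ValFlatten.Affine

/-!
The principal case of flattening by blow-ups.
-/

set_option autoImplicit false
set_option linter.style.haveILetI false
universe u

namespace Groth.RaynaudGruson.Flattening

theorem principalFlattening : PrincipalFlattening.{u} := by
  intro R _ a ha A _ _ _ M _ _ _ _ _ _ _
  exact Groth.ValFlatten.flattenable_of_flat_away ha (A := A) M

end Groth.RaynaudGruson.Flattening
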