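import Groth.Agent.RaynaudGruson.Flattening.Away

/-!
From a principal centre to a finitely generated one.
-/

set_option autoImplicit false
set_option linter.style.haveILetI false
universe u

namespace Groth.RaynaudGruson.Flattening

open TensorProduct

/-- The principal case of flattening by blow-ups. -/
def PrincipalFlattening : Prop :=
  ∀ {R : Type u} [CommRing R] {a : R}, a ∈ nonZeroDivisors R →
    ∀ {A : Type u} [CommRing A] [Algebra R A] [Algebra.FinitePresentation R A]
      (M : Type u) [AddCommGroup M] [Module A M] [Module R M] [IsScalarTower R A M] [Module.Finite A M]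
      [Module.Flat R (LocalizedModule (Submonoid.powers (algebraMap R A a)) M)]
      [Module.FinitePresentation (Localization.Away (algebraMap R A a))
        (LocalizedModule (Submonoid.powers (algebraMap R A a)) M)],
      Flattenable (Ideal.span {a}) M

/-- **Flattening on affine schemes**, the centre being supported on the zero set of a finite set. -/
theorem flattenable_of_flat_fp (core : PrincipalFlattening.{u}) {R A : Type u} [CommRing R] [CommRing A]
    [Algebra R A] [Algebra.FinitePresentation R A] (M : Type u) [AddCommGroup M] [Module A M] [Module R M]
    [IsScalarTower R A M] [Module.Finite A M] (J : Ideal R) (G : Finset R)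
    (hrad : (Ideal.span (G : Set R)).radical = J.radical)
    (hfl : ∀ g ∈ G, Module.Flat R (LocalizedModule (Submonoid.powers (algebraMap R A g)) M))
    (hfp : ∀ g ∈ G, Module.FinitePresentation (Localization.Away (algebraMap R A g))
      (LocalizedModule (Submonoid.powers (algebraMap R A g)) M)) :
    Flattenable J M := by
  refine flattenable_of_blowUp J M G hrad fun x hx Rx _ _ hnzd _ _ => ?_
  set t := algebraMap R Rx x with ht
  let B := Rx ⊗[R] A
  letI : Algebra A B := Algebra.TensorProduct.rightAlgebra
  haveI : IsScalarTower R A B := inferInstance
  haveI : Algebra.IsPushout R Rx A B := inferInstance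
  haveI : Algebra.FinitePresentation Rx B := inferInstance
  let M'' := B ⊗[A] M
  let T := tors M'' (algebraMap Rx B t)
  let N := M'' ⧸ T
  have hsx : algebraMap A B (algebraMap R A x) = algebraMap Rx B t := by
    rw [← IsScalarTower.algebraMap_apply R A B, ht, ← IsScalarTower.algebraMap_apply R Rx B]
  haveI hflM : Module.Flat Rx (LocalizedModule (Submonoid.powers (algebraMap Rx B t)) M'') := by
    haveI := hfl x hx
    rw [← hsx]; exact flat_away_baseChange (R := R) _
  haveI hfpM : Module.FinitePresentation (Localization.Away (algebraMap Rx B t))
      (LocalizedModule (Submonoid.powers (algebraMap Rx B t)) M'') := by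
    haveI := hfp x hx
    rw [← hsx]; exact finitePresentation_away_baseChange _
  obtain ⟨e⟩ := nonempty_localized_quotTorsEquiv (M := M'') (algebraMap Rx B t)
  haveI : Module.Flat Rx (LocalizedModule (Submonoid.powers (algebraMap Rx B t)) N) :=
    Module.Flat.of_linearEquiv (e.restrictScalars Rx)
  haveI : Module.FinitePresentation (Localization.Away (algebraMap Rx B t))
      (LocalizedModule (Submonoid.powers (algebraMap Rx B t)) N) :=
    Module.FinitePresentation.of_equiv (R := Localization.Away (algebraMap Rx B t))
      (M := LocalizedModule (Submonoid.powers (algebraMap Rx B t)) M'')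
      (N := LocalizedModule (Submonoid.powers (algebraMap Rx B t)) N) e.symm
  have hN : Flattenable (Ideal.span {t}) N := core hnzd (A := B) N
  let ι : M →ₗ[A] M'' := TensorProduct.mk A B M 1
  have hι : IsBaseChange Rx (ι.restrictScalars R) :=
    isBaseChange_of_pushout ι (TensorProduct.isBaseChange A M B)
  obtain ⟨eq₁⟩ := nonempty_quotTorsEquiv (τ := t) hι.equiv.toLinearMap hι.equiv.surjective (by
    rw [LinearEquiv.ker]; exact bot_le)
  refine hN.congr ?_
  exact ((Submodule.quotEquivOfEq _ _ (show tors M'' t = T.restrictScalars Rx by
    ext z
    simp only [T, Submodule.restrictScalars_mem, mem_tors, ← map_pow, algebraMap_smul])).trans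
      (Submodule.Quotient.restrictScalarsEquiv Rx _)).symm.trans eq₁.symm

end Groth.RaynaudGruson.Flattening
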