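import Groth.Agent.RaynaudGruson.Flattening.Basic
import Groth.Agent.S1239
import Mathlib.RingTheory.FinitePresentation

/-!
Finite type algebras as modules over a polynomial algebra.
-/

set_option autoImplicit false
set_option linter.style.haveILetI false
universe u

namespace Groth.RaynaudGruson.Flattening

variable {R P B : Type u} [CommRing R] [CommRing P] [CommRing B] [Algebra R P] [Algebra R B] [Algebra P B]
  [IsScalarTower R P B]

/-- An algebra which is flat away from `t` is flat away from `t` as a module over a larger algebra. -/
theorem flat_away_module (t : P) [Module.Flat R (Localization.Away (algebraMap P B t))] :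
    Module.Flat R (LocalizedModule (Submonoid.powers t) B) := by
  haveI : IsLocalizedModule (Submonoid.powers t)
      ((Algebra.linearMap B (Localization.Away (algebraMap P B t))).restrictScalars P) :=
    IsLocalizedModule.restrictScalars_powers (A := B) t _
  exact Module.Flat.of_linearEquiv ((IsLocalizedModule.iso (Submonoid.powers t)
    ((Algebra.linearMap B (Localization.Away (algebraMap P B t))).restrictScalars P)).restrictScalars R)

/-- An algebra finitely presented away from `t`, quotient of a finitely presented algebra, is finitely
presented away from `t` as a module over the latter. -/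
theorem fp_away_module [Algebra.FinitePresentation R P] (hsurj : Function.Surjective (algebraMap P B)) (t : P)
    [Algebra.FinitePresentation R (Localization.Away (algebraMap P B t))] :
    Module.FinitePresentation (Localization.Away t) (LocalizedModule (Submonoid.powers t) B) := by
  let Pt := Localization.Away t
  let Bt := Localization.Away (algebraMap P B t)
  have hu : IsUnit (algebraMap P Bt t) := by
    rw [IsScalarTower.algebraMap_apply P B Bt]
    exact IsLocalization.Away.algebraMap_isUnit _
  let ψ : Pt →ₐ[P] Bt := IsLocalization.liftAlgHom (M := Submonoid.powers t) (f := Algebra.ofId P Bt)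
    (by rintro ⟨_, n, rfl⟩; exact (map_pow (algebraMap P Bt) t n).symm ▸ hu.pow n)
  letI : Algebra Pt Bt := ψ.toRingHom.toAlgebra
  haveI : IsScalarTower P Pt Bt := IsScalarTower.of_algebraMap_eq fun p => (ψ.commutes p).symm
  haveI hloc : IsLocalizedModule (Submonoid.powers t) ((Algebra.linearMap B Bt).restrictScalars P) :=
    IsLocalizedModule.restrictScalars_powers (A := B) t _
  have hψsurj : Function.Surjective (algebraMap Pt Bt) := by
    intro y
    obtain ⟨⟨b, s⟩, hb⟩ := IsLocalizedModule.surj (Submonoid.powers t)
      ((Algebra.linearMap B Bt).restrictScalars P) y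
    obtain ⟨p, rfl⟩ := hsurj b
    refine ⟨IsLocalization.mk' Pt p s, ?_⟩
    have hs : IsUnit (algebraMap P Bt s) := by
      obtain ⟨n, hn⟩ := s.2
      rw [← show t ^ n = (s : P) from hn, map_pow]
      exact hu.pow n
    refine hs.mul_left_cancel ?_
    rw [IsScalarTower.algebraMap_apply P Pt Bt, ← map_mul, IsLocalization.mk'_spec', ← IsScalarTower.algebraMap_apply,
      IsScalarTower.algebraMap_apply P B Bt]
    refine hb.symm.trans ?_
    rw [Submonoid.smul_def, Algebra.smul_def, ← IsScalarTower.algebraMap_apply P Pt Bt]
  haveI : Algebra.FinitePresentation R Pt :=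
    haveI : Algebra.FinitePresentation P Pt := IsLocalization.Away.finitePresentation t
    Algebra.FinitePresentation.trans R P Pt
  haveI : IsScalarTower R Pt Bt := IsScalarTower.of_algebraMap_eq fun r => by
    rw [IsScalarTower.algebraMap_apply R P Pt, ← IsScalarTower.algebraMap_apply P Pt Bt,
      ← IsScalarTower.algebraMap_apply R P Bt]
  have hfg : (RingHom.ker (algebraMap Pt Bt)).FG :=
    Algebra.FinitePresentation.ker_fG_of_surjective (IsScalarTower.toAlgHom R Pt Bt) hψsurj
  haveI : Module.FinitePresentation Pt Bt :=
    Module.finitePresentation_of_surjective (Algebra.linearMap Pt Bt) hψsurj hfg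
  exact Module.FinitePresentation.of_equiv (R := Pt) (M := Bt) (N := LocalizedModule (Submonoid.powers t) B)
    ((IsLocalizedModule.iso (Submonoid.powers t)
      ((Algebra.linearMap B Bt).restrictScalars P)).symm.extendScalarsOfIsLocalization (Submonoid.powers t) Pt)

omit [CommRing P] in
/-- A flat finite type algebra, finitely presented away from a nonzerodivisor, is finitely presented. -/
theorem fp_of_flat_of_fp_away [Algebra.FiniteType R B] [Module.Flat R B] {τ : R} (hτ : τ ∈ nonZeroDivisors R)
    [Algebra.FinitePresentation R (Localization.Away (algebraMap R B τ))] : Algebra.FinitePresentation R B := by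
  obtain ⟨n, π, hπ⟩ := Algebra.FiniteType.iff_quotient_mvPolynomial''.mp ‹Algebra.FiniteType R B›
  let Q := MvPolynomial (Fin n) R
  letI : Algebra Q B := π.toRingHom.toAlgebra
  haveI : IsScalarTower R Q B := IsScalarTower.of_algebraMap_eq fun r => (π.commutes r).symm
  haveI : Module.Finite Q B := Module.Finite.of_surjective (Algebra.linearMap Q B) hπ
  haveI : Algebra.FinitePresentation R (Localization.Away (algebraMap Q B (algebraMap R Q τ))) := by
    rw [← IsScalarTower.algebraMap_apply]; infer_instance
  haveI : Module.FinitePresentation Q B := by
    refine Groth.Agent.S1239.result (A := R) B (fun _ : Fin 1 => τ) ?_ fun _ => fp_away_module (R := R) hπ _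
    intro a c hac
    exact IsLocalization.injective (M := Submonoid.powers τ) (Localization.Away τ)
      (Submonoid.powers_le.2 hτ) (congrFun hac 0)
  exact Algebra.FinitePresentation.of_surjective hπ (Module.FinitePresentation.fg_ker (Algebra.linearMap Q B) hπ)

end Groth.RaynaudGruson.Flattening
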