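import Groth.Agent.RaynaudGruson.ContentBlowUpScheme
import Groth.Agent.Flatmor4.FlatModAffine

/-!
Localized sections of quasi-coherent modules: flatness and finite presentation over an open.
-/

set_option autoImplicit false
set_option linter.style.haveILetI false
universe u

open CategoryTheory CategoryTheory.Limits AlgebraicGeometry TopologicalSpace Opposite Groth.QCohMod

namespace Groth.RaynaudGruson.Flattening

variable {X : Scheme.{u}} (F : X.Modules) [F.IsQuasicoherent]

/-- Finite presentation on an open passes to the sections over its affine opens. -/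
theorem fp_sections_of_fp_pullback (U₀ : X.Opens) (h : CohB1.IsFP ((Scheme.Modules.pullback U₀.ι).obj F))
    {D : X.Opens} (hD : IsAffineOpen D) (hDU : D ≤ U₀) : Module.FinitePresentation Γ(X, D) Γ(F, D) := by
  have hB : IsAffineOpen (U₀.ι ⁻¹ᵁ D) :=
    hD.preimage_of_isOpenImmersion U₀.ι (by rwa [Scheme.Opens.opensRange_ι])
  haveI : ((Scheme.Modules.pullback U₀.ι).obj F).IsQuasicoherent := isQCoh_pullback_obj _ F
  have h1 : Module.FinitePresentation Γ(X, U₀.ι ''ᵁ U₀.ι ⁻¹ᵁ D) Γ(F, U₀.ι ''ᵁ U₀.ι ⁻¹ᵁ D) :=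
    (fp_image_iff F _).1 (fp_of_iso ((Scheme.Modules.restrictFunctorIsoPullback _).app F)
      (Groth.PropsBasic.FPSections.finitePresentation_sections _ h hB))
  rwa [Scheme.Hom.image_preimage_eq_opensRange_inf, Scheme.Opens.opensRange_ι, inf_eq_right.mpr hDU] at h1

/-- Finite presentation over a basic open is finite presentation of the localized sections. -/
theorem fp_away_sections {V : X.Opens} (hV : IsAffineOpen V) (a : Γ(X, V))
    (h : Module.FinitePresentation Γ(X, X.basicOpen a) Γ(F, X.basicOpen a)) :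
    Module.FinitePresentation (Localization.Away a) (LocalizedModule (Submonoid.powers a) Γ(F, V)) := by
  letI := RelFP.basicModule F a
  haveI : IsScalarTower Γ(X, V) Γ(X, X.basicOpen a) Γ(F, X.basicOpen a) :=
    .of_algebraMap_smul fun _ _ => rfl
  haveI := hV.isLocalization_basicOpen a
  haveI := RelFP.isLocalizedModule_basicRes (F := F) hV a
  refine finitePresentation_of_semilinear (R := Γ(X, X.basicOpen a)) (M := Γ(F, X.basicOpen a))
    (IsLocalization.algEquiv (Submonoid.powers a) Γ(X, X.basicOpen a) (Localization.Away a)).toRingEquiv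
    (IsLocalizedModule.iso (Submonoid.powers a) (RelFP.basicRes F a)).symm.toAddEquiv ?_
  intro r m
  obtain ⟨x, s, rfl⟩ := IsLocalization.exists_mk'_eq (Submonoid.powers a) r
  let e := (IsLocalizedModule.iso (Submonoid.powers a) (RelFP.basicRes F a)).symm
  let τ := IsLocalization.algEquiv (Submonoid.powers a) Γ(X, X.basicOpen a) (Localization.Away a)
  show e (IsLocalization.mk' _ x s • m) = τ (IsLocalization.mk' _ x s) • e m
  have hu : IsUnit (algebraMap Γ(X, V) (Localization.Away a) s.1) := IsLocalization.map_units _ s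
  refine hu.smul_left_cancel.mp ?_
  rw [← mul_smul, ← τ.commutes s.1, ← map_mul, IsLocalization.mk'_spec'_mk, τ.commutes, τ.commutes,
    algebraMap_smul, algebraMap_smul, ← map_smul, ← algebraMap_smul Γ(X, X.basicOpen a) s.1, ← mul_smul,
    IsLocalization.mk'_spec'_mk, algebraMap_smul, map_smul]

/-- Flatness at the points of a basic open is flatness of the localized sections. -/
theorem flat_away_sections {S : Scheme.{u}} (f : X ⟶ S) {V : X.Opens} (hV : IsAffineOpen V) {W : S.Opens}
    (hW : IsAffineOpen W) (e : V ≤ f ⁻¹ᵁ W) (a : Γ(X, V))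
    (h : ∀ x ∈ X.basicOpen a, FlatMod.IsFlatOverAt f F x) :
    letI := (f.appLE W V e).hom.toAlgebra
    letI := Flatmor4.sectionModule f F e
    haveI : IsScalarTower Γ(S, W) Γ(X, V) Γ(F, V) := .of_algebraMap_smul fun _ _ => rfl
    Module.Flat Γ(S, W) (LocalizedModule (Submonoid.powers a) Γ(F, V)) := by
  letI := (f.appLE W V e).hom.toAlgebra
  letI := Flatmor4.sectionModule f F e
  haveI : IsScalarTower Γ(S, W) Γ(X, V) Γ(F, V) := .of_algebraMap_smul fun _ _ => rfl
  have eD : X.basicOpen a ≤ f ⁻¹ᵁ W := (X.basicOpen_le a).trans e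
  letI := RelFP.basicModule F a
  letI := Flatmor4.sectionModule f F eD
  haveI : IsScalarTower Γ(S, W) Γ(X, V) Γ(F, X.basicOpen a) := .of_algebraMap_smul fun r m => by
    show algebraMap Γ(X, V) Γ(X, X.basicOpen a) (f.appLE W V e r) • m = f.appLE W (X.basicOpen a) eD r • m
    congr 1
    exact congr($(f.appLE_map e (homOfLE (X.basicOpen_le a)).op) r)
  haveI := RelFP.isLocalizedModule_basicRes (F := F) hV a
  haveI : Module.Flat Γ(S, W) Γ(F, X.basicOpen a) :=
    (Flatmor4.flat_sections_iff f F (hV.basicOpen a) hW eD).mpr h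
  exact Module.Flat.of_linearEquiv
    ((IsLocalizedModule.iso (Submonoid.powers a) (RelFP.basicRes F a)).restrictScalars Γ(S, W))

/-- On an affine open the points of a basic open of an ideal only depend on the radical. -/
theorem exists_basicOpen_iff {V : X.Opens} (hV : IsAffineOpen V) {I J : Ideal Γ(X, V)}
    (h : I.radical = J.radical) {x : X} (hx : x ∈ V) :
    (∃ a ∈ I, x ∈ X.basicOpen a) ↔ ∃ a ∈ J, x ∈ X.basicOpen a := by
  simp only [mem_basicOpen_iff_notMem_primeIdealOf hV _ x hx]
  have key : ∀ K : Ideal Γ(X, V),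
      (∃ a ∈ K, a ∉ (hV.primeIdealOf ⟨x, hx⟩).asIdeal) ↔ ¬ K.radical ≤ (hV.primeIdealOf ⟨x, hx⟩).asIdeal := fun K => by
    rw [(hV.primeIdealOf ⟨x, hx⟩).2.radical_le_iff, SetLike.not_le_iff_exists]
  rw [key, key, h]

theorem exists_basicOpen_span_iff {V : X.Opens} (hV : IsAffineOpen V) (G : Finset Γ(X, V)) {x : X} (hx : x ∈ V) :
    (∃ a ∈ Ideal.span (G : Set Γ(X, V)), x ∈ X.basicOpen a) ↔ ∃ g ∈ G, x ∈ X.basicOpen g := by
  simp only [mem_basicOpen_iff_notMem_primeIdealOf hV _ x hx]
  rw [← SetLike.not_le_iff_exists, Ideal.span_le, Set.not_subset]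
  rfl

end Groth.RaynaudGruson.Flattening
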