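import Groth.Agent.RaynaudGruson.Flattening.Scheme
import Groth.Agent.RaynaudGruson.Flattening.Affine
import Groth.Agent.RaynaudGruson.Flattening.Sections
import Groth.Agent.RaynaudGruson.Flattening.Algebra
import Mathlib.AlgebraicGeometry.IdealSheaf.Subscheme

/-!
Flattening the strict transform of a scheme by an admissible blow-up.
-/

set_option autoImplicit false
set_option linter.style.haveILetI false
universe u

open CategoryTheory CategoryTheory.Limits AlgebraicGeometry TopologicalSpace Opposite Groth.QCohMod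

namespace Groth.RaynaudGruson.Flattening

variable {X S : Scheme.{u}} (f : X ⟶ S)

theorem ι_comp_eq_restrict {U : S.Opens} {D : X.Opens} (h : D ≤ f ⁻¹ᵁ U) :
    D.ι ≫ f = X.homOfLE h ≫ (f ∣_ U) ≫ U.ι := by
  rw [morphismRestrict_ι, ← Category.assoc, Scheme.homOfLE_ι]

theorem appLE_of_ι_comp {P : MorphismProperty Scheme.{u}}
    {Q : ∀ {R A : Type u} [CommRing R] [CommRing A], (R →+* A) → Prop} [HasRingHomProperty P Q]
    {W : S.Opens} (hW : IsAffineOpen W) {D : X.Opens} (hD : IsAffineOpen D) (e : D ≤ f ⁻¹ᵁ W)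
    (h : P (D.ι ≫ f)) : Q (f.appLE W D e).hom := by
  haveI : IsAffine D.toScheme := hD
  have e₁ : (⊤ : D.toScheme.Opens) ≤ D.ι ⁻¹ᵁ D := fun x _ => x.2
  have h1 := HasRingHomProperty.appLE P (D.ι ≫ f) h ⟨W, hW⟩ ⟨⊤, isAffineOpen_top _⟩
    (e₁.trans (D.ι.preimage_mono e))
  rw [← Scheme.Hom.appLE_comp_appLE D.ι f W D ⊤ e e₁] at h1
  haveI : IsIso (D.ι.appLE D ⊤ e₁) := by
    rw [Scheme.Opens.ι_appLE, show (homOfLE (x := D.ι ''ᵁ ⊤) (y := D) (Set.image_subset_iff.mpr e₁)) =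
      eqToHom D.ι_image_top from Subsingleton.elim _ _]
    exact (X.presheaf.mapIso (eqToIso D.ι_image_top).op).isIso_hom
  exact ((HasRingHomProperty.isLocal_ringHomProperty P).respectsIso.cancel_right_isIso _ _).mp h1

/-- The affine piece of the flattening problem for a scheme. -/
theorem exists_affine_ideal_alg (core : PrincipalFlattening.{u}) [LocallyOfFiniteType f] {U : S.Opens}
    [Flat (f ∣_ U)] [LocallyOfFinitePresentation (f ∣_ U)] {W : S.affineOpens} (Fs : Finset Γ(S, W.1))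
    (hFs : ∀ g ∈ Fs, S.basicOpen g ≤ U) {V : X.affineOpens} (eV : V.1 ≤ f ⁻¹ᵁ W.1) :
    letI := (f.appLE W.1 V.1 eV).hom.toAlgebra
    Flattenable (Ideal.span (Fs : Set Γ(S, W.1))) Γ(X, V.1) := by
  letI := (f.appLE W.1 V.1 eV).hom.toAlgebra
  haveI hftA : Algebra.FiniteType Γ(S, W.1) Γ(X, V.1) := f.finiteType_appLE W.2 V.2 eV
  obtain ⟨n, π, hπ⟩ := Algebra.FiniteType.iff_quotient_mvPolynomial''.mp hftA
  let P := MvPolynomial (Fin n) Γ(S, W.1)
  letI : Algebra P Γ(X, V.1) := π.toRingHom.toAlgebra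
  haveI : IsScalarTower Γ(S, W.1) P Γ(X, V.1) := IsScalarTower.of_algebraMap_eq fun r => (π.commutes r).symm
  haveI : Module.Finite P Γ(X, V.1) := Module.Finite.of_surjective (Algebra.linearMap P Γ(X, V.1)) hπ
  have key : ∀ g ∈ Fs,
      Module.Flat Γ(S, W.1) (Localization.Away (algebraMap P Γ(X, V.1) (algebraMap Γ(S, W.1) P g))) ∧
      Algebra.FinitePresentation Γ(S, W.1) (Localization.Away (algebraMap P Γ(X, V.1) (algebraMap Γ(S, W.1) P g))) := by
    intro g hg
    rw [← IsScalarTower.algebraMap_apply]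
    set a := algebraMap Γ(S, W.1) Γ(X, V.1) g with ha
    have hDU : X.basicOpen a ≤ f ⁻¹ᵁ U := by
      rw [ha, show algebraMap Γ(S, W.1) Γ(X, V.1) g = X.presheaf.map (homOfLE eV).op (f.app W.1 g) from rfl,
        Scheme.basicOpen_res, ← Scheme.preimage_basicOpen]
      exact inf_le_right.trans (f.preimage_mono (hFs g hg))
    have hD := V.2.basicOpen a
    have eD : X.basicOpen a ≤ f ⁻¹ᵁ W.1 := (X.basicOpen_le a).trans eV
    have hfl : Flat ((X.basicOpen a).ι ≫ f) := by rw [ι_comp_eq_restrict f hDU]; infer_instance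
    have hfp : LocallyOfFinitePresentation ((X.basicOpen a).ι ≫ f) := by
      rw [ι_comp_eq_restrict f hDU]; infer_instance
    have h1 : RingHom.Flat (f.appLE W.1 _ eD).hom := appLE_of_ι_comp f W.2 hD eD hfl
    have h2 : RingHom.FinitePresentation (f.appLE W.1 _ eD).hom := appLE_of_ι_comp f W.2 hD eD hfp
    letI algD := (f.appLE W.1 (X.basicOpen a) eD).hom.toAlgebra
    haveI : IsScalarTower Γ(S, W.1) Γ(X, V.1) Γ(X, X.basicOpen a) := IsScalarTower.of_algebraMap_eq fun r => by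
      show f.appLE W.1 (X.basicOpen a) eD r = X.presheaf.map (homOfLE (X.basicOpen_le a)).op (f.appLE W.1 V.1 eV r)
      exact (congr($(f.appLE_map eV (homOfLE (X.basicOpen_le a)).op) r)).symm
    haveI := V.2.isLocalization_basicOpen a
    haveI : Module.Flat Γ(S, W.1) Γ(X, X.basicOpen a) := RingHom.flat_algebraMap_iff.mp h1
    haveI : Algebra.FinitePresentation Γ(S, W.1) Γ(X, X.basicOpen a) := h2
    let e := ((IsLocalization.algEquiv (Submonoid.powers a) Γ(X, X.basicOpen a)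
      (Localization.Away a)).restrictScalars Γ(S, W.1))
    exact ⟨Module.Flat.of_linearEquiv e.symm.toLinearEquiv, Algebra.FinitePresentation.equiv e⟩
  refine flattenable_of_flat_fp core (A := P) Γ(X, V.1) _ Fs rfl (fun g hg => ?_) fun g hg => ?_
  · haveI := (key g hg).1; exact flat_away_module _
  · haveI := (key g hg).2; exact fp_away_module (R := Γ(S, W.1)) hπ _

variable {f}

theorem lfp_restrict_baseChange {X' S' : Scheme.{u}} {b : S' ⟶ S} {p₁ : X' ⟶ X} {p₂ : X' ⟶ S'}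
    (H : IsPullback p₁ p₂ f b) (U : S.Opens) [LocallyOfFinitePresentation (f ∣_ U)] :
    LocallyOfFinitePresentation (p₂ ∣_ (b ⁻¹ᵁ U)) := by
  have h2 := (isPullback_morphismRestrict p₂ (b ⁻¹ᵁ U)).flip.paste_horiz H
  rw [← morphismRestrict_ι b U] at h2
  have h3 := (isPullback_morphismRestrict f U).flip
  let l := h3.lift ((p₂ ⁻¹ᵁ (b ⁻¹ᵁ U)).ι ≫ p₁) ((p₂ ∣_ (b ⁻¹ᵁ U)) ≫ (b ∣_ U)) (by
    rw [Category.assoc (p₂ ∣_ (b ⁻¹ᵁ U))]; exact h2.w)
  have hl : IsPullback l (p₂ ∣_ (b ⁻¹ᵁ U)) (f ∣_ U) (b ∣_ U) := by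
    refine IsPullback.of_right ?_ (h3.lift_snd _ _ _) h3
    rw [h3.lift_fst]
    exact h2
  exact MorphismProperty.of_isPullback hl inferInstance

variable (f)

/-- **Flattening of the strict transform of a scheme.** -/
theorem exists_blowUp_subscheme (core : PrincipalFlattening.{u}) [CompactSpace S] [QuasiSeparatedSpace S]
    [LocallyOfFiniteType f] [QuasiCompact f] (U : S.Opens) (hU : IsCompact (U : Set S))
    [Flat (f ∣_ U)] [LocallyOfFinitePresentation (f ∣_ U)] :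
    ∃ (𝓘 : S.IdealSheafData) (S' : Scheme.{u}) (b : S' ⟶ S), BlowUp.IsBlowUp b 𝓘 ∧
      BlowUp.IsAdmissibleFor U 𝓘 ∧ (𝓘.support : Set S) = (U : Set S)ᶜ ∧
      ∀ (X' : Scheme.{u}) (p₁ : X' ⟶ X) (p₂ : X' ⟶ S'), IsPullback p₁ p₂ f b →
      ∀ (𝒥 : X'.IdealSheafData),
        (∀ (V : X'.affineOpens) (a : Γ(X', V.1)), a ∈ 𝒥.ideal V ↔
          BlowUp.KilledByPowerNear ((𝓘.comap f).comap p₁) (Coh.structureModule X') V a) →
        Flat (𝒥.subschemeι ≫ p₂) ∧ LocallyOfFinitePresentation (𝒥.subschemeι ≫ p₂) := by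
  classical
  haveI : CompactSpace X := QuasiCompact.compactSpace_of_compactSpace f
  choose Fs hFs hcov using ContentBlowUp.exists_basic_cover (S := S) hU
  have hpt : ∀ x : X, ∃ (W : S.affineOpens) (V : X.affineOpens), x ∈ V.1 ∧ V.1 ≤ f ⁻¹ᵁ W.1 := fun x => by
    obtain ⟨W, hW, -⟩ := Divisors.exists_affine_le (f x) ⊤ trivial
    obtain ⟨V, hV, hle⟩ := Divisors.exists_affine_le x (f ⁻¹ᵁ W.1) hW
    exact ⟨W, V, hV, hle⟩
  choose WX VX hxV hVW using hpt
  obtain ⟨sX, hsX⟩ := isCompact_univ.elim_finite_subcover (fun x : X => ((VX x).1 : Set X))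
    (fun x => (VX x).1.isOpen) (fun x _ => Set.mem_iUnion.mpr ⟨x, hxV x⟩)
  obtain ⟨sS, hsS⟩ := isCompact_univ.elim_finite_subcover (fun W : S.affineOpens => (W.1 : Set S))
    (fun W => W.1.isOpen) (fun s _ => by
      obtain ⟨W, hsW, -⟩ := Divisors.exists_affine_le s ⊤ trivial
      exact Set.mem_iUnion.mpr ⟨W, hsW⟩)
  choose LX hLfg hLrad hLfl using fun x => exists_affine_ideal_alg f core (U := U) (Fs (WX x)) (hFs _) (hVW x)
  let W : (↥sX ⊕ ↥sS) → S.affineOpens := Sum.elim (fun x => WX x.1) (fun W => W.1)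
  let L : ∀ k, Ideal Γ(S, (W k).1)
    | Sum.inl x => LX x.1
    | Sum.inr V => Ideal.span (Fs V.1 : Set Γ(S, V.1.1))
  obtain ⟨𝓘, S', b, hb, hadm, hsupp, hL⟩ := exists_blowUp_ideals hU W
    (fun s => by
      obtain ⟨V, hV, hsV⟩ := Set.mem_iUnion₂.mp (hsS (Set.mem_univ s))
      exact ⟨Sum.inr ⟨V, hV⟩, hsV⟩)
    L (fun k => by
      cases k with
      | inl x => exact hLfg x.1
      | inr V => exact Submodule.fg_span (Finset.finite_toSet _))
    (fun k => by
      have key : ∀ (V : S.affineOpens) (I : Ideal Γ(S, V.1)),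
          I.radical = (Ideal.span (Fs V : Set Γ(S, V.1))).radical →
          ∀ y ∈ V.1, y ∈ U ↔ ∃ a ∈ I, y ∈ S.basicOpen a := fun V I hI y hy => by
        rw [exists_basicOpen_iff V.2 hI hy, exists_basicOpen_span_iff V.2 _ hy]
        exact ⟨hcov V y hy, fun ⟨g, hg, hyg⟩ => hFs V g hg hyg⟩
      cases k with
      | inl x => exact key _ _ (hLrad x.1)
      | inr V => exact key _ _ rfl)
  refine ⟨𝓘, S', b, hb, hadm, hsupp, fun X' p₁ p₂ H 𝒥 h𝒥 => ?_⟩
  haveI : LocallyOfFiniteType p₂ := MorphismProperty.of_isPullback H inferInstance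
  -- on each affine piece
  have hloc : ∀ x : 𝒥.subscheme, ∃ (W' : S'.affineOpens) (O : X'.affineOpens) (_ : 𝒥.subschemeι x ∈ O.1)
      (e : O.1 ≤ p₂ ⁻¹ᵁ W'.1),
      RingHom.Flat ((Ideal.Quotient.mk (𝒥.ideal O)).comp (p₂.appLE W'.1 O.1 e).hom) ∧
        RingHom.FinitePresentation ((Ideal.Quotient.mk (𝒥.ideal O)).comp (p₂.appLE W'.1 O.1 e).hom) := by
    intro x
    set x' := 𝒥.subschemeι x with hx'
    obtain ⟨y, hy, hxy⟩ := Set.mem_iUnion₂.mp (hsX (Set.mem_univ (p₁ x')))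
    have hmem : p₂ x' ∈ b ⁻¹ᵁ (WX y).1 := by
      show b (p₂ x') ∈ (WX y).1
      rw [← Scheme.Hom.comp_apply, ← H.w, Scheme.Hom.comp_apply]
      exact hVW y hxy
    obtain ⟨W', hxW', eW, τ, hτ, hI⟩ := Divisors.exists_generator hb.1 (p₂ x') _ hmem
    obtain ⟨hlocp, hr⟩ := hL (Sum.inl ⟨y, hy⟩) W' eW τ hτ.mem_nonZeroDivisors hI
    haveI : IsAffine _ := (WX y).2
    haveI : IsAffine _ := W'.2
    haveI : IsAffine _ := (VX y).2
    let O : X'.Opens := p₁ ⁻¹ᵁ (VX y).1 ⊓ p₂ ⁻¹ᵁ W'.1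
    have hO : IsAffineOpen O :=
      .of_isIso (Scheme.Hom.isPullback_resLE H eW (hVW y) (rfl : O = _)).isoPullback.hom
    have e₁ : O ≤ p₁ ⁻¹ᵁ (VX y).1 := inf_le_left
    have e₂ : O ≤ p₂ ⁻¹ᵁ W'.1 := inf_le_right
    have hpo : IsPushout (f.appLE (WX y).1 (VX y).1 (hVW y)) (b.appLE (WX y).1 W'.1 eW)
        (p₁.appLE (VX y).1 O e₁) (p₂.appLE W'.1 O e₂) :=
      (isIso_pushoutSection_iff H eW (hVW y) rfl).mp
        (isIso_pushoutSection_of_isAffineOpen H eW (hVW y) rfl (WX y).2 W'.2 (VX y).2)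
    refine ⟨W', ⟨O, hO⟩, ⟨hxy, hxW'⟩, e₂, ?_⟩
    letI := (f.appLE (WX y).1 (VX y).1 (hVW y)).hom.toAlgebra
    letI := (b.appLE (WX y).1 W'.1 eW).hom.toAlgebra
    letI := sectionsAlg p₁ e₁
    letI := (p₂.appLE W'.1 O e₂).hom.toAlgebra
    letI : Algebra Γ(S, (WX y).1) Γ(X', O) :=
      ((p₁.appLE (VX y).1 O e₁).hom.comp (f.appLE (WX y).1 (VX y).1 (hVW y)).hom).toAlgebra
    haveI : IsScalarTower Γ(S, (WX y).1) Γ(X, (VX y).1) Γ(X', O) := .of_algebraMap_eq' rfl
    haveI : IsScalarTower Γ(S, (WX y).1) Γ(S', W'.1) Γ(X', O) := .of_algebraMap_eq fun a => congr($(hpo.w) a)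
    haveI : Algebra.IsPushout Γ(S, (WX y).1) Γ(X, (VX y).1) Γ(S', W'.1) Γ(X', O) :=
      CommRingCat.isPushout_iff_isPushout.mp hpo
    haveI : Algebra.IsPushout Γ(S, (WX y).1) Γ(S', W'.1) Γ(X, (VX y).1) Γ(X', O) := .symm inferInstance
    set t := algebraMap Γ(S', W'.1) Γ(X', O) τ with htdef
    have hflat := flat_quot_of_flattens (R := Γ(S, (WX y).1)) (R' := Γ(S', W'.1))
      (Algebra.linearMap Γ(X, (VX y).1) Γ(X', O)) (IsBaseChange.linearMap _ _) (hLfl y) hlocp hr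
    have hexc : ((𝓘.comap f).comap p₁).ideal ⟨O, hO⟩ = Ideal.span {t} := by
      rw [comap_comap_eq H, Divisors.ideal_comap_affine _ p₂ W' ⟨O, hO⟩ e₂, hI, Ideal.map_span, Set.image_singleton]
      rfl
    let J : Ideal Γ(X', O) := 𝒥.ideal ⟨O, hO⟩
    have hJ : J = tors Γ(X', O) t := by
      ext a
      exact (h𝒥 ⟨O, hO⟩ a).trans (RefRank.StrictSheaf.killedByPowerNear_iff (M := Coh.structureModule X') hexc a)
    haveI hflJ : Module.Flat Γ(S', W'.1) (Γ(X', O) ⧸ J) :=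
      @Module.Flat.of_linearEquiv _ _ _ _ _ _ _ _ hflat
        ((Submodule.quotEquivOfEq J (tors Γ(X', O) t) hJ).restrictScalars Γ(S', W'.1))
    refine ⟨RingHom.flat_algebraMap_iff.mpr hflJ, ?_⟩
    haveI : Algebra.FiniteType Γ(S', W'.1) Γ(X', O) := p₂.finiteType_appLE W'.2 hO e₂
    haveI hftJ : Algebra.FiniteType Γ(S', W'.1) (Γ(X', O) ⧸ J) :=
      Algebra.FiniteType.of_surjective (Ideal.Quotient.mkₐ _ J) Ideal.Quotient.mk_surjective
    -- away from the exceptional ideal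
    have hDU : X'.basicOpen t ≤ p₂ ⁻¹ᵁ (b ⁻¹ᵁ U) := by
      intro z hz
      have hns : z ∉ ((𝓘.comap f).comap p₁).support :=
        ContentBlowUp.notMem_support (W := ⟨O, hO⟩) (hexc.ge (Ideal.mem_span_singleton_self t)) hz
      rw [comap_comap_eq H, Scheme.IdealSheafData.support_comap, Scheme.IdealSheafData.support_comap] at hns
      by_contra hcon
      refine hns ?_
      show b (p₂ z) ∈ (𝓘.support : Set S)
      rw [hsupp]
      exact hcon
    haveI := lfp_restrict_baseChange H U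
    have eD : X'.basicOpen t ≤ p₂ ⁻¹ᵁ W'.1 := (X'.basicOpen_le t).trans e₂
    have hDfp : LocallyOfFinitePresentation ((X'.basicOpen t).ι ≫ p₂) := by
      rw [ι_comp_eq_restrict p₂ hDU]; infer_instance
    have hD : RingHom.FinitePresentation (p₂.appLE W'.1 _ eD).hom :=
      appLE_of_ι_comp p₂ W'.2 (hO.basicOpen t) eD hDfp
    let Γt := Γ(X', X'.basicOpen t)
    letI := (p₂.appLE W'.1 (X'.basicOpen t) eD).hom.toAlgebra
    haveI hDfp' : Algebra.FinitePresentation Γ(S', W'.1) Γt := hD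
    haveI := hO.isLocalization_basicOpen t
    haveI : IsScalarTower Γ(S', W'.1) Γ(X', O) Γt := IsScalarTower.of_algebraMap_eq fun r =>
      (congr($(p₂.appLE_map e₂ (homOfLE (X'.basicOpen_le t)).op) r)).symm
    let t' := algebraMap Γ(S', W'.1) (Γ(X', O) ⧸ J) τ
    have hut : IsUnit (algebraMap Γ(X', O) (Localization.Away t') t) := by
      rw [IsScalarTower.algebraMap_apply Γ(X', O) (Γ(X', O) ⧸ J) (Localization.Away t'),
        show algebraMap Γ(X', O) (Γ(X', O) ⧸ J) t = t' from (IsScalarTower.algebraMap_apply _ _ _ τ).symm]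
      exact IsLocalization.Away.algebraMap_isUnit _
    let q : Γt →ₐ[Γ(X', O)] Localization.Away t' :=
      IsLocalization.liftAlgHom (M := Submonoid.powers t) (f := Algebra.ofId Γ(X', O) (Localization.Away t'))
        (by rintro ⟨_, n, rfl⟩; exact (map_pow (algebraMap Γ(X', O) (Localization.Away t')) t n).symm ▸ hut.pow n)
    have hq : Function.Bijective q := by
      refine ⟨(injective_iff_map_eq_zero _).2 fun z hz => ?_, fun z => ?_⟩
      · obtain ⟨a, s, rfl⟩ := IsLocalization.exists_mk'_eq (Submonoid.powers t) z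
        have h1 : algebraMap Γ(X', O) (Localization.Away t') a = 0 := by
          rw [← q.commutes, ← IsLocalization.mk'_spec' Γt a s, map_mul, hz, mul_zero]
        rw [IsScalarTower.algebraMap_apply Γ(X', O) (Γ(X', O) ⧸ J), IsLocalization.map_eq_zero_iff
          (Submonoid.powers t')] at h1
        obtain ⟨⟨_, m, rfl⟩, hm⟩ := h1
        have hmem : t ^ m * a ∈ J := by
          rw [← Ideal.Quotient.eq_zero_iff_mem, map_mul, map_pow]
          exact hm
        rw [hJ] at hmem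
        obtain ⟨l, hl⟩ := hmem
        rw [IsLocalization.mk'_eq_zero_iff]
        exact ⟨⟨t ^ (l + m), l + m, rfl⟩, show t ^ (l + m) * a = 0 by rw [pow_add, mul_assoc]; exact hl⟩
      · obtain ⟨c, s, rfl⟩ := IsLocalization.exists_mk'_eq (Submonoid.powers t') z
        obtain ⟨a, rfl⟩ := Ideal.Quotient.mk_surjective c
        obtain ⟨m, hm⟩ := s.2
        refine ⟨IsLocalization.mk' Γt a (⟨t ^ m, ⟨m, rfl⟩⟩ : Submonoid.powers t), ?_⟩
        refine (IsLocalization.map_units (Localization.Away t') s).mul_left_cancel ?_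
        rw [IsLocalization.mk'_spec', ← show t' ^ m = (s : Γ(X', O) ⧸ J) from hm,
          show algebraMap (Γ(X', O) ⧸ J) (Localization.Away t') (t' ^ m) = algebraMap Γ(X', O) _ (t ^ m) by
            rw [IsScalarTower.algebraMap_apply Γ(X', O) (Γ(X', O) ⧸ J) (Localization.Away t')]; rfl,
          ← q.commutes, ← map_mul, IsLocalization.mk'_spec'_mk, q.commutes]
        rfl
    haveI : Algebra.FinitePresentation Γ(S', W'.1)
        (Localization.Away (algebraMap Γ(S', W'.1) (Γ(X', O) ⧸ J) τ)) :=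
      Algebra.FinitePresentation.equiv ((AlgEquiv.ofBijective q hq).restrictScalars Γ(S', W'.1))
    exact @fp_of_flat_of_fp_away Γ(S', W'.1) (Γ(X', O) ⧸ J) _ _ _ hftJ hflJ _ hτ.mem_nonZeroDivisors _
  have hι : ∀ (W' : S'.affineOpens) (O : X'.affineOpens) (e : O.1 ≤ p₂ ⁻¹ᵁ W'.1)
      (Q : ∀ {R A : Type u} [CommRing R] [CommRing A], (R →+* A) → Prop), RingHom.RespectsIso Q →
      Q ((Ideal.Quotient.mk (𝒥.ideal O)).comp (p₂.appLE W'.1 O.1 e).hom) →
      Q ((𝒥.subschemeι ≫ p₂).appLE W'.1 (𝒥.subschemeι ⁻¹ᵁ O.1) (𝒥.subschemeι.preimage_mono e)).hom := by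
    intro W' O e Q hQ h
    rw [← Scheme.Hom.appLE_comp_appLE 𝒥.subschemeι p₂ W'.1 O.1 _ e le_rfl, ← Scheme.Hom.app_eq_appLE,
      𝒥.subschemeι_app O]
    exact hQ.1 _ (𝒥.subschemeObjIso O).symm.commRingCatIsoToRingEquiv h
  refine ⟨?_, ?_⟩
  · rw [HasRingHomProperty.iff_exists_appLE (P := @Flat)
      (RingHom.Flat.stableUnderComposition.stableUnderCompositionWithLocalizationAway
        RingHom.Flat.holdsForLocalizationAway).left]
    intro x
    obtain ⟨W', O, hxO, e, h1, -⟩ := hloc x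
    exact ⟨W', ⟨_, O.2.preimage 𝒥.subschemeι⟩, hxO, 𝒥.subschemeι.preimage_mono e,
      hι W' O e RingHom.Flat RingHom.Flat.respectsIso h1⟩
  · rw [HasRingHomProperty.iff_exists_appLE (P := @LocallyOfFinitePresentation)
      (RingHom.finitePresentation_stableUnderComposition.stableUnderCompositionWithLocalizationAway
        RingHom.finitePresentation_holdsForLocalizationAway).left]
    intro x
    obtain ⟨W', O, hxO, e, -, h2⟩ := hloc x
    exact ⟨W', ⟨_, O.2.preimage 𝒥.subschemeι⟩, hxO, 𝒥.subschemeι.preimage_mono e,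
      hι W' O e RingHom.FinitePresentation RingHom.finitePresentation_respectsIso h2⟩

end Groth.RaynaudGruson.Flattening
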