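import Groth.Agent.RaynaudGruson.Flattening.BaseChange
import Mathlib.RingTheory.Localization.BaseChange

/-!
Flatness and finite presentation away from `t` of strict transforms on a chart.
-/

set_option autoImplicit false
set_option linter.style.haveILetI false
universe u

namespace Groth.RaynaudGruson.Flattening

open TensorProduct

theorem Flattens.congr {R : Type u} [CommRing R] {L : Ideal R} {M N : Type u} [AddCommGroup M] [Module R M]
    [AddCommGroup N] [Module R N] (e : M ≃ₗ[R] N) (h : Flattens L M) : Flattens L N := by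
  intro R' _ _ τ hτ hI N' _ _ _ _ φ hφ
  exact h R' τ hτ hI N' (φ ∘ₗ e.toLinearMap) (IsBaseChange.comp_equiv e φ hφ)

theorem Flattenable.congr {R : Type u} [CommRing R] {J : Ideal R} {M N : Type u} [AddCommGroup M] [Module R M]
    [AddCommGroup N] [Module R N] (e : M ≃ₗ[R] N) (h : Flattenable J M) : Flattenable J N := by
  obtain ⟨L, h₁, h₂, h₃⟩ := h
  exact ⟨L, h₁, h₂, h₃.congr e⟩

section Quot

variable {B M : Type u} [CommRing B] [AddCommGroup M] [Module B M]

/-- Localizing at `t` kills the elements annihilated by a power of `t`. -/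
theorem nonempty_localized_quotTorsEquiv (t : B) :
    Nonempty (LocalizedModule (Submonoid.powers t) (M ⧸ tors M t) ≃ₗ[Localization.Away t]
      LocalizedModule (Submonoid.powers t) M) := by
  let S := Submonoid.powers t
  let j := LocalizedModule.mkLinearMap S M
  let q : (M ⧸ tors M t) →ₗ[B] LocalizedModule S M := Submodule.liftQ _ j fun m ⟨n, hn⟩ => by
    rw [LinearMap.mem_ker]
    refine (IsLocalizedModule.eq_zero_iff S j).mpr ⟨⟨t ^ n, n, rfl⟩, hn⟩
  haveI : IsLocalizedModule S q := by
    refine ⟨IsLocalizedModule.map_units j, fun y => ?_, fun {x y} h => ?_⟩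
    · obtain ⟨⟨m, s⟩, hm⟩ := IsLocalizedModule.surj S j y
      exact ⟨⟨Submodule.Quotient.mk m, s⟩, hm⟩
    · obtain ⟨x, rfl⟩ := Submodule.Quotient.mk_surjective _ x
      obtain ⟨y, rfl⟩ := Submodule.Quotient.mk_surjective _ y
      obtain ⟨c, hc⟩ := IsLocalizedModule.exists_of_eq (S := S) (f := j) h
      exact ⟨c, congrArg Submodule.Quotient.mk hc⟩
  exact ⟨(IsLocalizedModule.iso S q).extendScalarsOfIsLocalization S (Localization.Away t)⟩

end Quot

section BaseChange

variable {R Rx A B : Type u} [CommRing R] [CommRing Rx] [CommRing A] [CommRing B] [Algebra R Rx] [Algebra R A]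
  [Algebra Rx B] [Algebra A B] [Algebra R B] [IsScalarTower R A B] [IsScalarTower R Rx B]
  [Algebra.IsPushout R Rx A B] {M : Type u} [AddCommGroup M] [Module R M] [Module A M] [IsScalarTower R A M]

/-- Flatness away from `s` is preserved by base change. -/
theorem flat_away_baseChange (s : A) [Module.Flat R (LocalizedModule (Submonoid.powers s) M)] :
    Module.Flat Rx (LocalizedModule (Submonoid.powers (algebraMap A B s)) (B ⊗[A] M)) := by
  let S := Submonoid.powers s
  let S' := Submonoid.powers (algebraMap A B s)
  let M'' := B ⊗[A] M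
  let Ms := LocalizedModule S M
  let L := LocalizedModule S' M''
  let j := LocalizedModule.mkLinearMap S M
  let ι : M →ₗ[A] M'' := TensorProduct.mk A B M 1
  have hι : IsBaseChange Rx (ι.restrictScalars R) :=
    isBaseChange_of_pushout ι (TensorProduct.isBaseChange A M B)
  let j' : M'' →ₗ[A] L := (LocalizedModule.mkLinearMap S' M'').restrictScalars A
  haveI hj' : IsLocalizedModule S j' :=
    IsLocalizedModule.restrictScalars_powers (A := B) s (LocalizedModule.mkLinearMap S' M'')
  let f₀ : M →ₗ[A] Rx →ₗ[R] M'' :=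
    { toFun := fun m => (LinearMap.toSpanSingleton Rx M'' (ι m)).restrictScalars R
      map_add' := fun x y => LinearMap.ext fun r => by simp
      map_smul' := fun a x => LinearMap.ext fun r => (congrArg (fun z : M'' => r • z) (ι.map_smul a x)).trans (smul_comm r a _) }
  let e₀ : M ⊗[R] Rx →ₗ[A] M'' := TensorProduct.AlgebraTensorModule.lift f₀
  have he₀ : Function.Bijective e₀ := by
    have : ⇑e₀ = hι.equiv ∘ TensorProduct.comm R M Rx := by
      funext z
      induction z with
      | zero => simp
      | add x y hx hy => simp only [map_add, Function.comp_apply, hx, hy]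
      | tmul m r =>
        show r • ι m = hι.equiv (r ⊗ₜ[R] m)
        rw [IsBaseChange.equiv_tmul]
        rfl
    rw [this]
    exact hι.equiv.bijective.comp (TensorProduct.comm R M Rx).bijective
  let ψ : Ms →ₗ[A] L := IsLocalizedModule.lift S j (j' ∘ₗ ι) (IsLocalizedModule.map_units j')
  have hψ : ∀ m, ψ (j m) = j' (ι m) := IsLocalizedModule.lift_apply S j (j' ∘ₗ ι) (IsLocalizedModule.map_units j')
  let g₀ : Ms →ₗ[A] Rx →ₗ[R] L :=
    { toFun := fun m => (LinearMap.toSpanSingleton Rx L (ψ m)).restrictScalars R
      map_add' := fun x y => LinearMap.ext fun r => by simp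
      map_smul' := fun a x => LinearMap.ext fun r => (congrArg (fun z : L => r • z) (ψ.map_smul a x)).trans (smul_comm r a _) }
  let Ψ : Ms ⊗[R] Rx →ₗ[A] L := TensorProduct.AlgebraTensorModule.lift g₀
  let g : M ⊗[R] Rx →ₗ[A] Ms ⊗[R] Rx := TensorProduct.AlgebraTensorModule.rTensor R Rx j
  haveI : IsLocalizedModule S (j' ∘ₗ e₀) :=
    inferInstanceAs (IsLocalizedModule S (j' ∘ₗ (LinearEquiv.ofBijective e₀ he₀).toLinearMap))
  have hΨ : Ψ ∘ₗ g = j' ∘ₗ e₀ := LinearMap.ext fun z => by
    induction z with
    | zero => simp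
    | add x y hx hy => simp only [map_add, hx, hy]
    | tmul m r =>
      show r • ψ (j m) = j' (r • ι m)
      rw [hψ]
      exact ((LocalizedModule.mkLinearMap S' M'').map_smul_of_tower r (ι m)).symm
  have hbij : Function.Bijective Ψ := by
    rw [show Ψ = (IsLocalizedModule.linearEquiv S g (j' ∘ₗ e₀)).toLinearMap from
      IsLocalizedModule.ext S g (IsLocalizedModule.map_units (j' ∘ₗ e₀)) (hΨ.trans (LinearMap.ext fun x =>
        (IsLocalizedModule.linearEquiv_apply S g (j' ∘ₗ e₀) x).symm))]
    exact (IsLocalizedModule.linearEquiv S g (j' ∘ₗ e₀)).bijective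
  let Φ : Rx ⊗[R] Ms →ₗ[Rx] L := (TensorProduct.isBaseChange R Ms Rx).lift (ψ.restrictScalars R)
  have hΦ : ∀ z, Φ z = Ψ (TensorProduct.comm R Rx Ms z) := fun z => by
    induction z with
    | zero => simp
    | add x y hx hy => simp only [map_add, hx, hy]
    | tmul r m =>
      show Φ (r ⊗ₜ[R] m) = r • ψ m
      rw [show r ⊗ₜ[R] m = r • ((1 : Rx) ⊗ₜ[R] m) by rw [TensorProduct.smul_tmul', smul_eq_mul, mul_one],
        map_smul]
      congr 1
      exact (TensorProduct.isBaseChange R Ms Rx).lift_eq _ _
  have hΦbij : Function.Bijective Φ := by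
    rw [show ⇑Φ = Ψ ∘ TensorProduct.comm R Rx Ms from funext hΦ]
    exact hbij.comp (TensorProduct.comm R Rx Ms).bijective
  exact Module.Flat.of_linearEquiv (LinearEquiv.ofBijective Φ hΦbij).symm

omit [CommRing R] [CommRing Rx] in
/-- Finite presentation away from `s` is preserved by base change. -/
theorem finitePresentation_away_baseChange (s : A)
    [Module.FinitePresentation (Localization.Away s) (LocalizedModule (Submonoid.powers s) M)] :
    Module.FinitePresentation (Localization.Away (algebraMap A B s))
      (LocalizedModule (Submonoid.powers (algebraMap A B s)) (B ⊗[A] M)) := by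
  let As := Localization.Away s
  let Bt := Localization.Away (algebraMap A B s)
  have hu : IsUnit (algebraMap A Bt s) := by
    rw [IsScalarTower.algebraMap_apply A B Bt]
    exact IsLocalization.Away.algebraMap_isUnit _
  letI : Algebra As Bt := (IsLocalization.Away.lift s hu).toAlgebra
  haveI : IsScalarTower A As Bt :=
    IsScalarTower.of_algebraMap_eq fun a => (IsLocalization.Away.lift_eq s hu a).symm
  haveI : Module.FinitePresentation As (As ⊗[A] M) := Module.FinitePresentation.of_equiv
    (IsLocalizedModule.isBaseChange (Submonoid.powers s) As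
      (LocalizedModule.mkLinearMap (Submonoid.powers s) M)).equiv.symm
  haveI : Module.FinitePresentation Bt (Bt ⊗[B] (B ⊗[A] M)) := Module.FinitePresentation.of_equiv
    ((AlgebraTensorModule.cancelBaseChange A As Bt Bt M).trans
      (AlgebraTensorModule.cancelBaseChange A B Bt Bt M).symm)
  let e : Bt ⊗[B] (B ⊗[A] M) ≃ₗ[Bt] LocalizedModule (Submonoid.powers (algebraMap A B s)) (B ⊗[A] M) :=
    (IsLocalizedModule.isBaseChange (Submonoid.powers (algebraMap A B s)) Bt
      (LocalizedModule.mkLinearMap (Submonoid.powers (algebraMap A B s)) (B ⊗[A] M))).equiv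
  exact Module.FinitePresentation.of_equiv (R := Bt) (M := Bt ⊗[B] (B ⊗[A] M))
    (N := LocalizedModule (Submonoid.powers (algebraMap A B s)) (B ⊗[A] M)) e

end BaseChange

end Groth.RaynaudGruson.Flattening
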