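import Groth.Agent.RaynaudGruson.Flattening.Steps

/-!
Base change of flattening ideals; base change along push-out squares.
-/

set_option autoImplicit false
set_option linter.style.haveILetI false
universe u

namespace Groth.RaynaudGruson.Flattening

open TensorProduct

theorem Flattens.baseChange {R : Type u} [CommRing R] {L : Ideal R} {M : Type u} [AddCommGroup M] [Module R M]
    (h : Flattens L M) {R₁ : Type u} [CommRing R₁] [Algebra R R₁] {M₁ : Type u} [AddCommGroup M₁] [Module R M₁]
    [Module R₁ M₁] [IsScalarTower R R₁ M₁] (φ : M →ₗ[R] M₁) (hφ : IsBaseChange R₁ φ) :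
    Flattens (L.map (algebraMap R R₁)) M₁ := by
  intro R' _ _ τ hτ hI M' _ _ _ _ χ hχ
  letI : Algebra R R' := ((algebraMap R₁ R').comp (algebraMap R R₁)).toAlgebra
  haveI : IsScalarTower R R₁ R' := IsScalarTower.of_algebraMap_eq fun _ => rfl
  letI : Module R M' := Module.compHom M' (algebraMap R R')
  haveI : IsScalarTower R R' M' := IsScalarTower.of_algebraMap_smul fun _ _ => rfl
  haveI : IsScalarTower R R₁ M' := IsScalarTower.of_algebraMap_smul fun r m => by
    rw [← algebraMap_smul R' (algebraMap R R₁ r) m, ← IsScalarTower.algebraMap_apply]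
    rfl
  refine h R' τ hτ ?_ M' ((χ.restrictScalars R) ∘ₗ φ) (hφ.comp hχ)
  rw [IsScalarTower.algebraMap_eq R R₁ R', ← Ideal.map_map]; exact hI

theorem isBaseChange_of_pushout {R₁ T A₁ B N₁ NB : Type u} [CommRing R₁] [CommRing T] [CommRing A₁] [CommRing B]
    [Algebra R₁ T] [Algebra R₁ A₁] [Algebra R₁ B] [Algebra A₁ B] [Algebra T B] [IsScalarTower R₁ A₁ B]
    [IsScalarTower R₁ T B] [Algebra.IsPushout R₁ T A₁ B]
    [AddCommGroup N₁] [Module R₁ N₁] [Module A₁ N₁] [IsScalarTower R₁ A₁ N₁]
    [AddCommGroup NB] [Module A₁ NB] [Module B NB] [IsScalarTower A₁ B NB] [Module T NB] [IsScalarTower T B NB]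
    [Module R₁ NB] [IsScalarTower R₁ T NB] [IsScalarTower R₁ A₁ NB]
    (χ : N₁ →ₗ[A₁] NB) (hχ : IsBaseChange B χ) : IsBaseChange T (χ.restrictScalars R₁) := by
  refine IsBaseChange.of_equiv ((Algebra.IsPushout.cancelBaseChange R₁ T A₁ B N₁).symm.trans
    (hχ.equiv.restrictScalars T)) fun m => ?_
  simp [IsBaseChange.equiv_tmul]

end Groth.RaynaudGruson.Flattening
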