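import Groth.Agent.RaynaudGruson.ContentBlowUp
import Mathlib

/-!
Strict transforms of modules along test algebras of an ideal; ideals whose blow-up flattens a module.
-/

set_option autoImplicit false
set_option linter.style.haveILetI false
universe u

namespace Groth.RaynaudGruson.Flattening

open TensorProduct

section Tors

variable {R : Type u} [CommRing R] {M : Type u} [AddCommGroup M] [Module R M]

variable (M) in
/-- The elements killed by a power of `τ`. -/
def tors (τ : R) : Submodule R M where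
  carrier := {m | ∃ n : ℕ, τ ^ n • m = 0}
  zero_mem' := ⟨0, smul_zero _⟩
  add_mem' := fun {a b} ⟨i, hi⟩ ⟨j, hj⟩ => ⟨i + j, by
    rw [smul_add, pow_add, mul_smul, mul_smul, hj, smul_zero, smul_comm, hi, smul_zero, add_zero]⟩
  smul_mem' := fun c m ⟨n, hn⟩ => ⟨n, by rw [smul_comm, hn, smul_zero]⟩

theorem mem_tors {τ : R} {m : M} : m ∈ tors M τ ↔ ∃ n : ℕ, τ ^ n • m = 0 := Iff.rfl

theorem tors_le_of_mem_radical {τ τ' : R} (h : τ' ∈ (Ideal.span {τ}).radical) : tors M τ ≤ tors M τ' := by
  rintro m ⟨n, hn⟩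
  obtain ⟨k, hk⟩ := h
  obtain ⟨c, hc⟩ := Ideal.mem_span_singleton'.mp hk
  refine ⟨k * n, ?_⟩
  rw [pow_mul, ← hc, mul_pow, mul_smul, hn, smul_zero]

theorem tors_congr {τ τ' : R} (h : (Ideal.span {τ}).radical = (Ideal.span {τ'}).radical) : tors M τ = tors M τ' :=
  le_antisymm
    (tors_le_of_mem_radical (h ▸ Ideal.le_radical (Ideal.mem_span_singleton_self τ')))
    (tors_le_of_mem_radical (h ▸ Ideal.le_radical (Ideal.mem_span_singleton_self τ)))

theorem smul_quotient_tors_eq_zero {τ : R} {x : M ⧸ tors M τ} (h : τ • x = 0) : x = 0 := by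
  obtain ⟨m, rfl⟩ := Submodule.Quotient.mk_surjective _ x
  rw [← Submodule.Quotient.mk_smul, Submodule.Quotient.mk_eq_zero] at h
  obtain ⟨n, hn⟩ := h
  rw [Submodule.Quotient.mk_eq_zero]
  exact ⟨n + 1, by rw [pow_succ, mul_smul]; exact hn⟩

theorem pow_smul_quotient_tors_eq_zero {τ : R} : ∀ (n : ℕ) {x : M ⧸ tors M τ}, τ ^ n • x = 0 → x = 0
  | 0, x, h => by simpa using h
  | n + 1, x, h => by
    rw [pow_succ', mul_smul] at h
    exact pow_smul_quotient_tors_eq_zero n (smul_quotient_tors_eq_zero h)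

end Tors

section BaseChange

variable {R' R'' : Type u} [CommRing R'] [CommRing R''] [Algebra R' R'']
  {M' : Type u} [AddCommGroup M'] [Module R' M'] {M'' : Type u} [AddCommGroup M''] [Module R' M''] [Module R'' M'']
  [IsScalarTower R' R'' M''] {ψ : M' →ₗ[R'] M''} {τ : R'}

/-- The map induced on strict transforms. -/
def torsMap (ψ : M' →ₗ[R'] M'') (τ : R') :
    (M' ⧸ tors M' τ) →ₗ[R'] (M'' ⧸ tors M'' (algebraMap R' R'' τ)) :=
  Submodule.liftQ _ (((tors M'' (algebraMap R' R'' τ)).mkQ.restrictScalars R') ∘ₗ ψ) <| by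
    rintro m ⟨n, hn⟩
    rw [LinearMap.mem_ker, LinearMap.comp_apply, LinearMap.restrictScalars_apply, Submodule.mkQ_apply,
      Submodule.Quotient.mk_eq_zero]
    exact ⟨n, by rw [← map_pow, algebraMap_smul, ← map_smul, hn, map_zero]⟩

theorem torsMap_mk (m : M') :
    torsMap (R'' := R'') ψ τ (Submodule.Quotient.mk m) = Submodule.Quotient.mk (ψ m) := rfl

/-- Strict transforms commute with a base change along which the strict transform stays torsion free. -/
theorem isBaseChange_torsMap (hψ : IsBaseChange R'' ψ)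
    (h : ∀ (n : ℕ) (x : R'' ⊗[R'] (M' ⧸ tors M' τ)), algebraMap R' R'' τ ^ n • x = 0 → x = 0) :
    IsBaseChange R'' (torsMap (R'' := R'') ψ τ) := by
  let T := tors M' τ
  let Φ := (TensorProduct.isBaseChange R' (M' ⧸ T) R'').lift (torsMap (R'' := R'') ψ τ)
  let π : R'' ⊗[R'] M' →ₗ[R''] R'' ⊗[R'] (M' ⧸ T) := T.mkQ.baseChange R''
  have hπ : Function.Surjective π := LinearMap.lTensor_surjective R'' T.mkQ_surjective
  have hΦ : ∀ z, Φ (π z) = Submodule.Quotient.mk (hψ.equiv z) := by
    intro z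
    induction z with
    | zero => simp
    | add a b ha hb => simp only [map_add, Submodule.Quotient.mk_add, ha, hb]
    | tmul r m =>
      show Φ (r ⊗ₜ[R'] Submodule.Quotient.mk m) = _
      rw [IsBaseChange.equiv_tmul, show r ⊗ₜ[R'] (Submodule.Quotient.mk m : M' ⧸ T) =
        r • ((1 : R'') ⊗ₜ[R'] Submodule.Quotient.mk m) by rw [TensorProduct.smul_tmul', smul_eq_mul, mul_one],
        map_smul, Submodule.Quotient.mk_smul]
      congr 1
      exact (TensorProduct.isBaseChange R' (M' ⧸ T) R'').lift_eq _ _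
  have hbij : Function.Bijective Φ := by
    refine ⟨(injective_iff_map_eq_zero _).2 fun x hx => ?_, fun y => ?_⟩
    · obtain ⟨z, rfl⟩ := hπ x
      rw [hΦ, Submodule.Quotient.mk_eq_zero] at hx
      obtain ⟨n, hn⟩ := hx
      rw [← map_smul, LinearEquiv.map_eq_zero_iff] at hn
      exact h n _ (by rw [← map_smul, hn, map_zero])
    · obtain ⟨y, rfl⟩ := Submodule.Quotient.mk_surjective _ y
      exact ⟨π (hψ.equiv.symm y), by rw [hΦ, LinearEquiv.apply_symm_apply]⟩
  refine IsBaseChange.of_equiv (LinearEquiv.ofBijective Φ hbij) fun x => ?_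
  exact (TensorProduct.isBaseChange R' (M' ⧸ T) R'').lift_eq _ _

theorem tensor_tors_free_of_flat (hfl : Module.Flat R' (M' ⧸ tors M' τ))
    (hτ : algebraMap R' R'' τ ∈ nonZeroDivisors R'') (n : ℕ) (x : R'' ⊗[R'] (M' ⧸ tors M' τ))
    (hx : algebraMap R' R'' τ ^ n • x = 0) : x = 0 :=
  Module.Flat.isSMulRegular_of_nonZeroDivisors (pow_mem hτ n) (hx.trans (smul_zero _).symm)

theorem tensor_tors_free_of_flat_algebra [Module.Flat R' R''] (n : ℕ) (x : R'' ⊗[R'] (M' ⧸ tors M' τ))
    (hx : algebraMap R' R'' τ ^ n • x = 0) : x = 0 := by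
  have hinj : Function.Injective (LinearMap.lsmul R' (M' ⧸ tors M' τ) (τ ^ n)) :=
    (injective_iff_map_eq_zero _).2 fun y hy => pow_smul_quotient_tors_eq_zero n hy
  refine Module.Flat.lTensor_preserves_injective_linearMap (M := R'') _ hinj ?_
  rw [map_zero]
  refine Eq.trans ?_ hx
  clear hx
  induction x with
  | zero => simp
  | add a b ha hb => rw [map_add, smul_add, ha, hb]
  | tmul r y =>
    rw [LinearMap.lTensor_tmul, LinearMap.lsmul_apply, TensorProduct.tmul_smul, ← map_pow, algebraMap_smul]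

end BaseChange

/-- Flatness descends along flat algebras covering the support. -/
theorem flat_descend {R A N : Type u} [CommRing R] [CommRing A] [Algebra R A] [AddCommGroup N] [Module A N]
    [Module R N] [IsScalarTower R A N]
    (h : ∀ P : Ideal A, P.IsPrime → (∃ m : N, ∀ s ∉ P, s • m ≠ 0) →
      ∃ (B : Type u) (_ : CommRing B) (_ : Algebra A B) (_ : Algebra R B) (_ : IsScalarTower R A B),
        Module.Flat A B ∧ (∃ Q : Ideal B, Q.IsPrime ∧ Q.comap (algebraMap A B) = P) ∧
        Module.Flat R (B ⊗[A] N)) :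
    Module.Flat R N := by
  rw [Module.Flat.iff_lTensor_preserves_injective_linearMap]
  intro N₁ N₂ _ _ _ _ ι hι
  let L : N ⊗[R] N₁ →ₗ[A] N ⊗[R] N₂ := AlgebraTensorModule.lTensor A N ι
  show Function.Injective L
  refine (injective_iff_map_eq_zero _).2 fun x hx => ?_
  let 𝔞 : Ideal A := LinearMap.ker (LinearMap.toSpanSingleton A (N ⊗[R] N₁) x)
  by_contra hx0
  have hne : 𝔞 ≠ ⊤ := fun htop => hx0 (by
    have : (1 : A) ∈ 𝔞 := htop ▸ Submodule.mem_top
    simpa [𝔞] using this)
  obtain ⟨P, hP, hle⟩ := Ideal.exists_le_maximal 𝔞 hne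
  by_cases hsupp : ∃ m : N, ∀ s ∉ P, s • m ≠ 0
  · obtain ⟨B, _, _, _, _, hBflat, ⟨Q, hQ, hQP⟩, hNB⟩ := h P hP.isPrime hsupp
    haveI := hBflat
    haveI := hNB
    have hinjB : Function.Injective (L.lTensor B) := by
      let e₁ := TensorProduct.AlgebraTensorModule.assoc R A A B N N₁
      let e₂ := TensorProduct.AlgebraTensorModule.assoc R A A B N N₂
      have hcomm : ∀ z, L.lTensor B (e₁ z) = e₂ (ι.lTensor (B ⊗[A] N) z) := by
        intro z
        induction z with
        | zero => simp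
        | add a b ha hb => simp only [map_add, ha, hb]
        | tmul w n₁ =>
          induction w with
          | zero => simp
          | add a b ha hb => simp only [TensorProduct.add_tmul, map_add, ha, hb]
          | tmul b m => rfl
      intro a c hac
      obtain ⟨a, rfl⟩ := e₁.surjective a
      obtain ⟨c, rfl⟩ := e₁.surjective c
      rw [hcomm, hcomm] at hac
      rw [Module.Flat.lTensor_preserves_injective_linearMap ι hι (e₂.injective hac)]
    have h1 : (1 : B) ⊗ₜ[A] x = 0 := hinjB (by rw [LinearMap.lTensor_tmul, hx, TensorProduct.tmul_zero, map_zero])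
    let j : (A ⧸ 𝔞) →ₗ[A] N ⊗[R] N₁ := Submodule.liftQ 𝔞 (LinearMap.toSpanSingleton A _ x) le_rfl
    have hj : Function.Injective j := LinearMap.ker_eq_bot.1 (Submodule.ker_liftQ_eq_bot _ _ _ le_rfl)
    have h2 : (1 : B) ⊗ₜ[A] (Ideal.Quotient.mk 𝔞 1) = 0 := by
      refine Module.Flat.lTensor_preserves_injective_linearMap (M := B) j hj ?_
      rw [map_zero, LinearMap.lTensor_tmul]
      show (1 : B) ⊗ₜ[A] ((1 : A) • x) = 0
      rw [one_smul]; exact h1
    have h4 : (1 : B) ∈ 𝔞.map (algebraMap A B) := by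
      let J := 𝔞.map (algebraMap A B)
      let u : (A ⧸ 𝔞) →ₐ[A] B ⧸ J := Ideal.Quotient.liftₐ 𝔞 (Algebra.ofId A (B ⧸ J)) fun a ha => by
        rw [Algebra.ofId_apply, IsScalarTower.algebraMap_apply A B (B ⧸ J), Ideal.Quotient.algebraMap_eq,
          Ideal.Quotient.eq_zero_iff_mem]
        exact Ideal.mem_map_of_mem _ ha
      let Ψ := Algebra.TensorProduct.lift (Ideal.Quotient.mkₐ A J) u fun _ _ => Commute.all _ _
      have h3 := congrArg Ψ h2
      rw [map_zero, Algebra.TensorProduct.lift_tmul, map_one (Ideal.Quotient.mk 𝔞), map_one, map_one, one_mul] at h3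
      exact Ideal.Quotient.eq_zero_iff_mem.mp ((map_one (Ideal.Quotient.mk J)).trans h3)
    exact hQ.ne_top ((Ideal.eq_top_iff_one _).2
      (Ideal.map_le_iff_le_comap.2 (hle.trans hQP.ge) h4))
  · push Not at hsupp
    have h1 : ∀ z : N ⊗[R] N₁, ∃ s ∉ P, s • z = 0 := by
      intro z
      induction z with
      | zero => exact ⟨1, P.one_notMem, smul_zero _⟩
      | tmul m n₁ =>
        obtain ⟨s, hs, hsm⟩ := hsupp m
        exact ⟨s, hs, by rw [TensorProduct.smul_tmul', hsm, TensorProduct.zero_tmul]⟩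
      | add a b ha hb =>
        obtain ⟨s, hs, hsa⟩ := ha
        obtain ⟨t, ht, htb⟩ := hb
        exact ⟨s * t, fun h' => (hP.isPrime.mem_or_mem h').elim hs ht, by
          rw [smul_add, mul_smul, mul_smul, htb, smul_zero, smul_comm, hsa, smul_zero, add_zero]⟩
    obtain ⟨s, hs, hsx⟩ := h1 x
    exact hs (hle hsx)

section LocPrincipal

variable {R : Type u} [CommRing R]

/-- Near every prime the ideal is generated by a nonzerodivisor. -/
def LocPrincipal (I : Ideal R) : Prop :=
  ∀ P : Ideal R, P.IsPrime → ∃ g ∉ P, ∃ a ∈ I, (∀ x ∈ I, ∃ (k : ℕ) (y : R), g ^ k * x = a * y) ∧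
    ∀ y, a * y = 0 → ∃ k : ℕ, g ^ k * y = 0

theorem locPrincipal_span {τ : R} (hτ : τ ∈ nonZeroDivisors R) : LocPrincipal (Ideal.span {τ}) := fun P hP =>
  ⟨1, P.one_notMem, τ, Ideal.mem_span_singleton_self τ, fun x hx => by
    obtain ⟨c, rfl⟩ := Ideal.mem_span_singleton'.mp hx
    exact ⟨0, c, by ring⟩, fun y hy => ⟨0, by rw [pow_zero, one_mul]; exact (mem_nonZeroDivisors_iff.mp hτ).1 y hy⟩⟩

theorem locPrincipal_of_mul {I J : Ideal R} (h : LocPrincipal (I * J)) : LocPrincipal I := by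
  intro P hP
  obtain ⟨g, hg, a, ha, hdiv, hann⟩ := h P hP
  let L := Localization.Away g
  have hmap : (I * J).map (algebraMap R L) = Ideal.span {algebraMap R L a} := by
    refine le_antisymm (Ideal.map_le_iff_le_comap.2 fun x hx => ?_) ?_
    · obtain ⟨k, y, hk⟩ := hdiv x hx
      rw [Ideal.mem_comap]
      refine (Ideal.unit_mul_mem_iff_mem _ ((IsLocalization.Away.algebraMap_isUnit (S := L) g).pow k)).mp ?_
      rw [← map_pow, ← map_mul, hk, map_mul]
      exact Ideal.mul_mem_right _ _ (Ideal.mem_span_singleton_self _)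
    · rw [Ideal.span_singleton_le_iff_mem]; exact Ideal.mem_map_of_mem _ ha
  have ha' : algebraMap R L a ∈ nonZeroDivisors L := by
    rw [mem_nonZeroDivisors_iff_left]
    intro z hz
    obtain ⟨y, s, rfl⟩ := IsLocalization.exists_mk'_eq (Submonoid.powers g) z
    rw [IsLocalization.mul_mk'_eq_mk'_of_mul, IsLocalization.mk'_eq_zero_iff] at hz
    obtain ⟨⟨_, l, rfl⟩, hl⟩ := hz
    obtain ⟨k, hk⟩ := hann (g ^ l * y) (by rw [mul_left_comm]; exact hl)
    exact (IsLocalization.mk'_eq_zero_iff _ _).2 ⟨⟨g ^ (k + l), _, rfl⟩,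
      show g ^ (k + l) * y = 0 by rw [← hk, pow_add, mul_assoc]⟩
  rw [Ideal.map_mul] at hmap
  have hdisj : Disjoint (↑(Submonoid.powers g) : Set R) (P : Set R) :=
    Set.disjoint_left.mpr fun z ⟨n, hn⟩ hz => hg (hP.mem_of_pow_mem n ((show g ^ n = z from hn) ▸ hz))
  haveI := IsLocalization.isPrime_of_isPrime_disjoint (Submonoid.powers g) L P hP hdisj
  obtain ⟨b, hb, w, hw, hbdiv, -, hbann⟩ := ContentBlowUp.exists_split_factor (P.map (algebraMap R L)) hmap ha'
  obtain ⟨⟨⟨b₀, hb₀⟩, s⟩, hbs⟩ := (IsLocalization.mem_map_algebraMap_iff (Submonoid.powers g) L).mp hb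
  obtain ⟨⟨w₀, t⟩, hwt⟩ := IsLocalization.surj (Submonoid.powers g) w
  have hw₀ : w₀ ∉ P := fun h' => hw <| by
    have h1 : w * algebraMap R L t ∈ P.map (algebraMap R L) := hwt ▸ Ideal.mem_map_of_mem _ h'
    exact (Ideal.mul_unit_mem_iff_mem _ (IsLocalization.map_units L t)).mp h1
  have hu := IsLocalization.map_units L s
  refine ⟨g * w₀, fun h' => (hP.mem_or_mem h').elim hg hw₀, b₀, hb₀, fun x hx => ?_, fun y hy => ?_⟩
  · obtain ⟨y, hy⟩ := hbdiv _ (Ideal.mem_map_of_mem _ hx)
    obtain ⟨⟨y₀, r⟩, hyr⟩ := IsLocalization.surj (Submonoid.powers g) y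
    have h1 : algebraMap R L ((s * r : R) * (w₀ * x)) = algebraMap R L (b₀ * (y₀ * t)) := by
      simp only [map_mul, ← hwt, ← hbs, ← hyr]
      linear_combination (algebraMap R L s * algebraMap R L r * algebraMap R L t) * hy
    obtain ⟨⟨_, l, rfl⟩, hl⟩ := (IsLocalization.eq_iff_exists (Submonoid.powers g) L).mp h1
    obtain ⟨i, hi⟩ := s.2
    obtain ⟨j, hj⟩ := r.2
    refine ⟨l + i + j + 1, g * w₀ ^ (l + i + j) * g ^ l * (y₀ * t), ?_⟩
    have hi' : g ^ i = (s : R) := hi
    have hj' : g ^ j = (r : R) := hj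
    calc (g * w₀) ^ (l + i + j + 1) * x
        = g * w₀ ^ (l + i + j) * (g ^ l * ((g ^ i * g ^ j) * (w₀ * x))) := by ring
      _ = g * w₀ ^ (l + i + j) * (g ^ l * (b₀ * (y₀ * t))) := by rw [hi', hj', hl]
      _ = b₀ * (g * w₀ ^ (l + i + j) * g ^ l * (y₀ * t)) := by ring
  · have h1 : b * algebraMap R L y = 0 := by
      refine hu.mul_left_eq_zero.mp ?_
      rw [mul_right_comm, hbs, ← map_mul, hy, map_zero]
    have h2 : algebraMap R L (w₀ * y) = 0 := by
      rw [map_mul, ← hwt, mul_right_comm, hbann _ h1, zero_mul]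
    obtain ⟨⟨_, l, rfl⟩, hl⟩ := (IsLocalization.map_eq_zero_iff (Submonoid.powers g) L _).mp h2
    refine ⟨l + 1, ?_⟩
    calc (g * w₀) ^ (l + 1) * y = g * w₀ ^ l * (g ^ l * (w₀ * y)) := by ring
      _ = 0 := by rw [hl, mul_zero]

theorem LocPrincipal.map {I : Ideal R} (hI : LocPrincipal I) {R' : Type u} [CommRing R'] [Algebra R R']
    [Module.Flat R R'] : LocPrincipal (I.map (algebraMap R R')) := by
  intro P' hP'
  obtain ⟨g, hg, a, ha, hdiv, hann⟩ := hI (P'.comap (algebraMap R R')) (hP'.comap _)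
  refine ⟨algebraMap R R' g, hg, algebraMap R R' a, Ideal.mem_map_of_mem _ ha, fun x hx => ?_, fun y hy => ?_⟩
  · induction hx using Submodule.span_induction with
    | mem x hx =>
      obtain ⟨x, hx, rfl⟩ := hx
      obtain ⟨k, y, hk⟩ := hdiv x hx
      exact ⟨k, algebraMap R R' y, by rw [← map_pow, ← map_mul, hk, map_mul]⟩
    | zero => exact ⟨0, 0, by simp⟩
    | add u v _ _ hu hv =>
      obtain ⟨k, y, hk⟩ := hu
      obtain ⟨l, z, hl⟩ := hv
      exact ⟨k + l, algebraMap R R' g ^ l * y + algebraMap R R' g ^ k * z, by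
        rw [pow_add]; linear_combination (algebraMap R R' g ^ l) * hk + (algebraMap R R' g ^ k) * hl⟩
    | smul c u _ hu =>
      obtain ⟨k, y, hk⟩ := hu
      exact ⟨k, c * y, by rw [smul_eq_mul, mul_left_comm, hk]; ring⟩
  · let K := LinearMap.ker (LinearMap.mulLeft R a)
    have hex : Function.Exact K.subtype (LinearMap.mulLeft R a) := LinearMap.exact_subtype_ker_map _
    have hex' := Module.Flat.lTensor_exact R' hex
    obtain ⟨z, hz⟩ := (hex' (y ⊗ₜ[R] (1 : R))).mp (by
      apply (TensorProduct.rid R R').injective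
      rw [LinearMap.lTensor_tmul, map_zero, TensorProduct.rid_tmul, LinearMap.mulLeft_apply, mul_one,
        Algebra.smul_def, hy])
    obtain ⟨k, hk⟩ : ∃ k : ℕ, algebraMap R R' g ^ k • z = 0 := by
      clear hz
      induction z with
      | zero => exact ⟨0, smul_zero _⟩
      | add u v hu hv =>
        obtain ⟨k, hk⟩ := hu
        obtain ⟨l, hl⟩ := hv
        exact ⟨k + l, by rw [smul_add, pow_add, mul_smul, mul_smul, hl, smul_zero, smul_comm, hk, smul_zero, add_zero]⟩
      | tmul r w =>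
        obtain ⟨k, hk⟩ := hann w.1 w.2
        refine ⟨k, ?_⟩
        rw [← map_pow, algebraMap_smul, ← TensorProduct.tmul_smul, show g ^ k • w = 0 from Subtype.ext hk,
          TensorProduct.tmul_zero]
    refine ⟨k, ?_⟩
    have h1 := congrArg (fun w => TensorProduct.rid R R' (K.subtype.lTensor R' w)) hk
    rw [← map_pow, algebraMap_smul] at h1
    simp only [map_smul, hz, TensorProduct.rid_tmul, one_smul, map_zero] at h1
    rwa [Algebra.smul_def, map_pow] at h1

theorem LocPrincipal.exists_away {I : Ideal R} (hI : LocPrincipal I) (P : Ideal R) [hP : P.IsPrime] :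
    ∃ g ∉ P, ∃ σ ∈ nonZeroDivisors (Localization.Away g),
      I.map (algebraMap R (Localization.Away g)) = Ideal.span {σ} := by
  obtain ⟨g, hg, a, ha, hdiv, hann⟩ := hI P hP
  refine ⟨g, hg, algebraMap R _ a, ?_, le_antisymm (Ideal.map_le_iff_le_comap.2 fun x hx => ?_) ?_⟩
  · rw [mem_nonZeroDivisors_iff_left]
    intro z hz
    obtain ⟨y, s, rfl⟩ := IsLocalization.exists_mk'_eq (Submonoid.powers g) z
    rw [IsLocalization.mul_mk'_eq_mk'_of_mul, IsLocalization.mk'_eq_zero_iff] at hz
    obtain ⟨⟨_, l, rfl⟩, hl⟩ := hz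
    obtain ⟨k, hk⟩ := hann (g ^ l * y) (by rw [mul_left_comm]; exact hl)
    exact (IsLocalization.mk'_eq_zero_iff _ _).2 ⟨⟨g ^ (k + l), _, rfl⟩,
      show g ^ (k + l) * y = 0 by rw [← hk, pow_add, mul_assoc]⟩
  · obtain ⟨k, y, hk⟩ := hdiv x hx
    rw [Ideal.mem_comap]
    refine (Ideal.unit_mul_mem_iff_mem _
      ((IsLocalization.Away.algebraMap_isUnit (S := Localization.Away g) g).pow k)).mp ?_
    rw [← map_pow, ← map_mul, hk, map_mul]
    exact Ideal.mul_mem_right _ _ (Ideal.mem_span_singleton_self _)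
  · rw [Ideal.span_singleton_le_iff_mem]; exact Ideal.mem_map_of_mem _ ha

end LocPrincipal

section Flattens

variable {R : Type u} [CommRing R]

/-- Every strict transform along a test algebra of `L` is flat. -/
def Flattens (L : Ideal R) (M : Type u) [AddCommGroup M] [Module R M] : Prop :=
  ∀ (R' : Type u) [CommRing R'] [Algebra R R'] (τ : R'), τ ∈ nonZeroDivisors R' →
    L.map (algebraMap R R') = Ideal.span {τ} →
    ∀ (M' : Type u) [AddCommGroup M'] [Module R' M'] [Module R M'] [IsScalarTower R R' M'] (φ : M →ₗ[R] M'),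
      IsBaseChange R' φ → Module.Flat R' (M' ⧸ tors M' τ)

variable {M : Type u} [AddCommGroup M] [Module R M] {L : Ideal R}

/-- Tests with locally principal ideals. -/
theorem Flattens.flat_of_locPrincipal (h : Flattens L M) {R' : Type u} [CommRing R'] [Algebra R R']
    (hL : LocPrincipal (L.map (algebraMap R R'))) {τ : R'}
    (hrad : (L.map (algebraMap R R')).radical = (Ideal.span {τ}).radical)
    {M' : Type u} [AddCommGroup M'] [Module R' M'] [Module R M'] [IsScalarTower R R' M'] (φ : M →ₗ[R] M')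
    (hφ : IsBaseChange R' φ) : Module.Flat R' (M' ⧸ tors M' τ) := by
  refine flat_descend (R := R') (A := R') fun P hP _ => ?_
  obtain ⟨g, hg, σ, hσ, hIσ⟩ := hL.exists_away P
  let R'' := Localization.Away g
  have hdisj : Disjoint (↑(Submonoid.powers g) : Set R') (P : Set R') :=
    Set.disjoint_left.mpr fun z ⟨n, hn⟩ hz => hg (hP.mem_of_pow_mem n ((show g ^ n = z from hn) ▸ hz))
  refine ⟨R'', inferInstance, inferInstance, inferInstance, inferInstance, IsLocalization.flat R'' (Submonoid.powers g),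
    ⟨P.map (algebraMap R' R''), IsLocalization.isPrime_of_isPrime_disjoint (Submonoid.powers g) R'' P hP hdisj,
      IsLocalization.under_map_of_isPrime_disjoint (Submonoid.powers g) R'' hP hdisj⟩, ?_⟩
  haveI : Module.Flat R' R'' := IsLocalization.flat R'' (Submonoid.powers g)
  let M'' := R'' ⊗[R'] M'
  let ψ : M' →ₗ[R'] M'' := TensorProduct.mk R' R'' M' 1
  have hψ : IsBaseChange R'' ψ := TensorProduct.isBaseChange R' M' R''
  have hfl := h R'' σ hσ (by rw [IsScalarTower.algebraMap_eq R R' R'', ← Ideal.map_map]; exact hIσ) M''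
    (ψ.restrictScalars R ∘ₗ φ) (hφ.comp hψ)
  have htors : tors M'' σ = tors M'' (algebraMap R' R'' τ) := tors_congr <| by
    rw [← hIσ, ← Set.image_singleton, ← Ideal.map_span]
    refine le_antisymm ?_ ?_ <;> rw [Ideal.radical_le_radical_iff] <;>
      refine (Ideal.map_mono ?_).trans (Ideal.map_radical_le _)
    · rw [← hrad]; exact Ideal.le_radical
    · rw [hrad]; exact Ideal.le_radical
  rw [htors] at hfl
  haveI := hfl
  have hb := isBaseChange_torsMap (τ := τ) hψ (tensor_tors_free_of_flat_algebra (τ := τ))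
  haveI : Module.Flat R'' (R'' ⊗[R'] (M' ⧸ tors M' τ)) := Module.Flat.of_linearEquiv hb.equiv
  exact Module.Flat.trans R' R'' (R'' ⊗[R'] (M' ⧸ tors M' τ))

/-- A multiple of a flattening ideal with the same radical flattens. -/
theorem Flattens.mono {L' : Ideal R} (h : Flattens L M) (J : Ideal R) (hL' : L' = L * J)
    (hrad : L'.radical = L.radical) : Flattens L' M := by
  intro R' _ _ τ hτ hI M' _ _ _ _ φ hφ
  refine h.flat_of_locPrincipal ?_ ?_ φ hφ
  · refine locPrincipal_of_mul (J := J.map (algebraMap R R')) ?_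
    rw [← Ideal.map_mul, ← hL', hI]
    exact locPrincipal_span hτ
  · rw [← hI]
    refine le_antisymm ?_ ?_ <;> rw [Ideal.radical_le_radical_iff] <;>
      refine (Ideal.map_mono ?_).trans (Ideal.map_radical_le _)
    · rw [hrad]; exact Ideal.le_radical
    · rw [← hrad]; exact Ideal.le_radical

/-- Being flattenable with the radical of `J`. -/
def Flattenable (J : Ideal R) (M : Type u) [AddCommGroup M] [Module R M] : Prop :=
  ∃ L : Ideal R, L.FG ∧ L.radical = J.radical ∧ Flattens L M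

end Flattens

end Groth.RaynaudGruson.Flattening
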