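import Groth.Agent.RefRank.StrictSheaf
import Groth.Agent.Divisors.EffCartierMore
import Groth.Agent.QCohMod.Category
import Groth.Agent.QCohMod.PullbackQCoh
import Mathlib.RingTheory.Ideal.Operations

/-!
Strict transforms of quasi-coherent modules exist for finite type centres; they are quasi-coherent when
the exceptional ideal is locally principal.
-/

set_option autoImplicit false
set_option linter.style.haveILetI false
universe u

open CategoryTheory CategoryTheory.Limits AlgebraicGeometry TopologicalSpace Opposite Groth.QCohMod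

namespace Groth.RaynaudGruson.Flattening

variable {X' X : Scheme.{u}} {b : X' ⟶ X} {I : X.IdealSheafData} {F : X.Modules}

/-- **Existence of strict transforms of modules.** -/
theorem exists_strictTransform (b : X' ⟶ X) (I : X.IdealSheafData) (F : X.Modules) [F.IsQuasicoherent]
    (hI : BlowUp.IsFiniteTypeIdeal (I.comap b)) :
    ∃ (G : X'.Modules) (π : (Scheme.Modules.pullback b).obj F ⟶ G), BlowUp.IsStrictTransform b I F G π := by
  let P := (Scheme.Modules.pullback b).obj F
  haveI : P.IsQuasicoherent := isQCoh_pullback_obj b F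
  let E := I.comap b
  let U₀ : X'.Opens := Divisors.complOpens E
  let η := (Scheme.Modules.restrictAdjunction U₀.ι).unit.app P
  refine ⟨Abelian.image η, Abelian.factorThruImage η, inferInstance, fun V m => ?_⟩
  have hle : ∀ a ∈ E.ideal V, X'.basicOpen a ≤ U₀.ι ''ᵁ U₀.ι ⁻¹ᵁ V.1 := by
    intro a ha z hz
    rw [Scheme.Hom.image_preimage_eq_opensRange_inf, Scheme.Opens.opensRange_ι]
    refine ⟨fun hs => ?_, X'.basicOpen_le a hz⟩
    have hs' : z ∈ E.support := hs
    rw [Scheme.IdealSheafData.mem_support_iff_of_mem (X'.basicOpen_le a hz), Scheme.mem_zeroLocus_iff] at hs'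
    exact hs' a ha hz
  have h0 : (Abelian.factorThruImage η).app V.1 m = 0 ↔
      res P (U₀.ι.image_preimage_le V.1) m = 0 := by
    have hfac : (Abelian.image.ι η).app V.1 ((Abelian.factorThruImage η).app V.1 m) = η.app V.1 m :=
      congr(($(Abelian.image.fac η)).app V.1 m)
    have hη : η.app V.1 m = res P (U₀.ι.image_preimage_le V.1) m := rfl
    rw [← hη, ← hfac]
    exact ⟨fun h => by rw [h]; exact map_zero _, fun h => app_injective_of_mono _ _ (h.trans (map_zero _).symm)⟩
  rw [h0]
  constructor
  · intro h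
    let ann : Ideal Γ(X', V.1) := LinearMap.ker (LinearMap.toSpanSingleton Γ(X', V.1) Γ(P, V.1) m)
    have hrad : E.ideal V ≤ ann.radical := fun a ha => by
      obtain ⟨n, hn⟩ := exists_pow_smul_eq_zero P V.2 a m (by
        rw [← res_res P (U₀.ι.image_preimage_le V.1) (hle a ha), h, map_zero])
      exact ⟨n, hn⟩
    obtain ⟨n, hn⟩ := Ideal.exists_pow_le_of_le_radical_of_fg hrad (hI V)
    refine ⟨n, fun a ha => ?_⟩
    rw [Scheme.IdealSheafData.ideal_pow, Pi.pow_apply] at ha
    exact hn ha
  · rintro ⟨n, hn⟩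
    refine TopCat.Presheaf.section_ext ⟨P.presheaf, P.isSheaf⟩ _ _ 0 fun z hz => ?_
    rw [map_zero]
    show germ P z hz (res P (U₀.ι.image_preimage_le V.1) m) = 0
    rw [germ_res]
    have hzU : z ∈ U₀ ⊓ V.1 := by
      rw [Scheme.Hom.image_preimage_eq_opensRange_inf, Scheme.Opens.opensRange_ι] at hz
      exact hz
    obtain ⟨a, ha, hza⟩ : ∃ a ∈ E.ideal V, z ∈ X'.basicOpen a := by
      by_contra hcon
      push Not at hcon
      refine hzU.1 ?_
      show z ∈ E.support
      rw [Scheme.IdealSheafData.mem_support_iff_of_mem hzU.2, Scheme.mem_zeroLocus_iff]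
      exact hcon
    have hkill : a ^ n • m = 0 := hn _ (by
      rw [Scheme.IdealSheafData.ideal_pow, Pi.pow_apply]
      exact Ideal.pow_mem_pow ha n)
    have h1 := congrArg (germ P z hzU.2) hkill
    rw [germ_smul, map_zero, map_pow] at h1
    exact (((Scheme.mem_basicOpen X' a z hzU.2).mp hza).pow n).smul_eq_zero.1 h1

variable {G : X'.Modules} {π : (Scheme.Modules.pullback b).obj F ⟶ G}

/-- Strict transforms are quasi-coherent if the exceptional ideal is locally principal. -/
theorem isQCoh_of_isStrictTransform [F.IsQuasicoherent]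
    (hE : ∀ x : X', ∃ W : X'.affineOpens, x ∈ W.1 ∧ ∃ t, (I.comap b).ideal W = Ideal.span {t})
    (hG : BlowUp.IsStrictTransform b I F G π) : G.IsQuasicoherent := by
  haveI : ((Scheme.Modules.pullback b).obj F).IsQuasicoherent := isQCoh_pullback_obj b F
  haveI : (kernel π).IsQuasicoherent := by
    refine isQCoh_of_affine_cover _ fun x => ?_
    obtain ⟨W, hxW, t, hI⟩ := hE x
    have hι : ∀ V : X'.Opens, Function.Injective ((kernel.ι π).app V) :=
      fun V => OmegaSh.ι_app_injective π V
    have hker : ∀ (V : X'.Opens) (k : Γ(kernel π, V)), π.app V ((kernel.ι π).app V k) = 0 :=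
      fun V k => congr(($(kernel.condition π)).app V k)
    refine ⟨W.1, W.2, hxW, fun f s => ?_, fun f s hs => ?_⟩
    · obtain ⟨n, m, hm⟩ := exists_pow_smul_eq_res ((Scheme.Modules.pullback b).obj F) W.2 f
        ((kernel.ι π).app _ s)
      have hIf : (I.comap b).ideal (X'.affineBasicOpen f) =
          Ideal.span {resFun X' (X'.basicOpen_le f) t} := by
        rw [← (I.comap b).map_ideal_basicOpen, hI, Ideal.map_span, Set.image_singleton]
      have h0 : π.app (X'.basicOpen f) (res ((Scheme.Modules.pullback b).obj F) (X'.basicOpen_le f) m) = 0 := by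
        rw [hm, Scheme.Modules.Hom.app_smul, hker, smul_zero]
      obtain ⟨N, hN0⟩ := (RefRank.StrictSheaf.killedByPowerNear_iff hIf _).1
        ((hG.2 (X'.affineBasicOpen f) _).1 h0)
      have hN : res ((Scheme.Modules.pullback b).obj F) (X'.basicOpen_le f) (t ^ N • m) = 0 := by
        rw [res_smul, map_pow]; exact hN0
      obtain ⟨p, hp⟩ := exists_pow_smul_eq_zero ((Scheme.Modules.pullback b).obj F) W.2 f _ hN
      have h1 : π.app W.1 (f ^ p • m) = 0 := (hG.2 W _).2
        ((RefRank.StrictSheaf.killedByPowerNear_iff hI _).2 ⟨N, (smul_comm _ _ _).trans hp⟩)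
      refine ⟨p + n, OmegaSh.kerLift π W.1 (f ^ p • m) h1, hι _ ?_⟩
      rw [← res_app (kernel.ι π), OmegaSh.ι_kerLift, res_smul, hm, Scheme.Modules.Hom.app_smul,
        pow_add, map_pow, mul_smul]
    · obtain ⟨n, hn⟩ := exists_pow_smul_eq_zero ((Scheme.Modules.pullback b).obj F) W.2 f
        ((kernel.ι π).app _ s) (by rw [res_app, hs, map_zero])
      exact ⟨n, hι _ (by rw [Scheme.Modules.Hom.app_smul, hn, map_zero])⟩
  haveI := hG.1
  exact (isQCoh_iff_of_iso (IsColimit.coconePointUniqueUpToIso (cokernelIsCokernel (kernel.ι π))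
    (Abelian.epiIsCokernelOfKernel (KernelFork.ofι (kernel.ι π) (kernel.condition π)) (kernelIsKernel π)))).mp
    (isQCoh_cokernel _)

end Groth.RaynaudGruson.Flattening
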