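import Groth.Agent.RaynaudGruson.Flattening.BaseChange
import Groth.Agent.RaynaudGruson.Flattening.StrictExists
import Groth.Agent.FlatMorOne.FlatLocusScheme
import Groth.Agent.PropsBasic.LociBaseChange.Scheme
import Groth.Agent.LocFree.ExtPullback
import Groth.Agent.Flatmor4.FlatModAffine

/-!
Flatness of strict transforms on the affine pieces of a base change.
-/

set_option autoImplicit false
set_option linter.style.haveILetI false
universe u

open CategoryTheory CategoryTheory.Limits AlgebraicGeometry TopologicalSpace Opposite Groth.QCohMod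

namespace Groth.RaynaudGruson.Flattening

theorem tors_algebraMap {R' A' M' : Type u} [CommRing R'] [CommRing A'] [Algebra R' A'] [AddCommGroup M']
    [Module A' M'] [Module R' M'] [IsScalarTower R' A' M'] (τ : R') :
    tors M' τ = (tors M' (algebraMap R' A' τ)).restrictScalars R' := by
  ext z
  simp only [Submodule.restrictScalars_mem, mem_tors, ← map_pow, algebraMap_smul]

/-- The strict transform of a module over a base changed algebra. -/
theorem flat_quot_of_flattens {R R' A A' M M' : Type u} [CommRing R] [CommRing R'] [CommRing A] [CommRing A']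
    [Algebra R R'] [Algebra R A] [Algebra R A'] [Algebra A A'] [Algebra R' A'] [IsScalarTower R A A']
    [IsScalarTower R R' A'] [Algebra.IsPushout R R' A A'] [AddCommGroup M] [Module R M] [Module A M]
    [IsScalarTower R A M] [AddCommGroup M'] [Module A M'] [Module A' M'] [IsScalarTower A A' M'] [Module R' M']
    [IsScalarTower R' A' M'] (χ : M →ₗ[A] M') (hχ : IsBaseChange A' χ) {L : Ideal R} (h : Flattens L M)
    (hloc : LocPrincipal (L.map (algebraMap R R'))) {τ : R'}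
    (hrad : (L.map (algebraMap R R')).radical = (Ideal.span {τ}).radical) :
    Module.Flat R' (M' ⧸ tors M' (algebraMap R' A' τ)) := by
  letI : Module R M' := Module.compHom M' (algebraMap R R')
  haveI : IsScalarTower R R' M' := IsScalarTower.of_algebraMap_smul fun _ _ => rfl
  haveI : IsScalarTower R A M' := IsScalarTower.of_algebraMap_smul fun r m => by
    rw [← algebraMap_smul A' (algebraMap R A r) m, ← IsScalarTower.algebraMap_apply,
      IsScalarTower.algebraMap_apply R R' A', algebraMap_smul]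
    rfl
  haveI := h.flat_of_locPrincipal hloc hrad (χ.restrictScalars R) (isBaseChange_of_pushout (R₁ := R) (T := R') χ hχ)
  exact Module.Flat.of_linearEquiv
    ((Submodule.quotEquivOfEq _ _ (tors_algebraMap (A' := A') τ)).trans
      (Submodule.Quotient.restrictScalarsEquiv R' _)).symm

variable {X S X' S' : Scheme.{u}} {f : X ⟶ S} {b : S' ⟶ S} {p₁ : X' ⟶ X} {p₂ : X' ⟶ S'}

theorem comap_comap_eq (H : IsPullback p₁ p₂ f b) (𝓘 : S.IdealSheafData) :
    (𝓘.comap f).comap p₁ = (𝓘.comap b).comap p₂ := by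
  rw [← Scheme.IdealSheafData.comap_comp, H.w, Scheme.IdealSheafData.comap_comp]

theorem exists_principal (H : IsPullback p₁ p₂ f b) {𝓘 : S.IdealSheafData}
    (hE : BlowUp.IsEffCartierIdeal (𝓘.comap b)) (x : X') :
    ∃ W : X'.affineOpens, x ∈ W.1 ∧ ∃ t, ((𝓘.comap f).comap p₁).ideal W = Ideal.span {t} := by
  obtain ⟨W', hxW', -, t, -, hI⟩ := Divisors.exists_generator hE (p₂ x) ⊤ trivial
  obtain ⟨W, hxW, hW⟩ := Divisors.exists_affine_le x (p₂ ⁻¹ᵁ W'.1) hxW'
  refine ⟨W, hxW, (p₂.appLE W'.1 W.1 hW).hom t, ?_⟩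
  rw [comap_comap_eq H, Divisors.ideal_comap_affine _ p₂ W' W hW, hI, Ideal.map_span, Set.image_singleton]

theorem isQCoh_strictTransform (H : IsPullback p₁ p₂ f b) {𝓘 : S.IdealSheafData}
    (hE : BlowUp.IsEffCartierIdeal (𝓘.comap b)) {F : X.Modules} [F.IsQuasicoherent] {G : X'.Modules}
    {π : (Scheme.Modules.pullback p₁).obj F ⟶ G} (hG : BlowUp.IsStrictTransform p₁ (𝓘.comap f) F G π) :
    G.IsQuasicoherent :=
  isQCoh_of_isStrictTransform (exists_principal H hE) hG

/-- **Flatness of a strict transform from a flattening ideal on an affine piece.** -/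
theorem isFlatOverAt_of_flattens (H : IsPullback p₁ p₂ f b) (F : X.Modules) [F.IsQuasicoherent]
    (𝓘 : S.IdealSheafData) {G : X'.Modules} [G.IsQuasicoherent] {π : (Scheme.Modules.pullback p₁).obj F ⟶ G}
    (hG : BlowUp.IsStrictTransform p₁ (𝓘.comap f) F G π)
    {W : S.affineOpens} {V : X.affineOpens} (eV : V.1 ≤ f ⁻¹ᵁ W.1) {W' : S'.affineOpens} (eW : W'.1 ≤ b ⁻¹ᵁ W.1)
    {L : Ideal Γ(S, W.1)}
    (hL : letI := Flatmor4.sectionModule f F eV; Flattens L Γ(F, V.1))
    (hloc : LocPrincipal (L.map (b.appLE W.1 W'.1 eW).hom)) {τ : Γ(S', W'.1)}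
    (hI : (𝓘.comap b).ideal W' = Ideal.span {τ})
    (hrad : (L.map (b.appLE W.1 W'.1 eW).hom).radical = (Ideal.span {τ}).radical)
    {x' : X'} (h1 : p₁ x' ∈ V.1) (h2 : p₂ x' ∈ W'.1) : FlatMod.IsFlatOverAt p₂ G x' := by
  haveI : IsAffine _ := W.2
  haveI : IsAffine _ := W'.2
  haveI : IsAffine _ := V.2
  let O : X'.Opens := p₁ ⁻¹ᵁ V.1 ⊓ p₂ ⁻¹ᵁ W'.1
  have hO : IsAffineOpen O :=
    .of_isIso (Scheme.Hom.isPullback_resLE H eW eV (rfl : O = _)).isoPullback.hom
  have e₁ : O ≤ p₁ ⁻¹ᵁ V.1 := inf_le_left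
  have e₂ : O ≤ p₂ ⁻¹ᵁ W'.1 := inf_le_right
  have hpo : IsPushout (f.appLE W.1 V.1 eV) (b.appLE W.1 W'.1 eW) (p₁.appLE V.1 O e₁) (p₂.appLE W'.1 O e₂) :=
    (isIso_pushoutSection_iff H eW eV rfl).mp
      (isIso_pushoutSection_of_isAffineOpen H eW eV rfl W.2 W'.2 V.2)
  refine (Flatmor4.flat_sections_iff p₂ G hO W'.2 e₂).mp ?_ x' ⟨h1, h2⟩
  letI := (f.appLE W.1 V.1 eV).hom.toAlgebra
  letI := (b.appLE W.1 W'.1 eW).hom.toAlgebra
  letI := sectionsAlg p₁ e₁
  letI := (p₂.appLE W'.1 O e₂).hom.toAlgebra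
  letI : Algebra Γ(S, W.1) Γ(X', O) := ((p₁.appLE V.1 O e₁).hom.comp (f.appLE W.1 V.1 eV).hom).toAlgebra
  haveI : IsScalarTower Γ(S, W.1) Γ(X, V.1) Γ(X', O) := .of_algebraMap_eq' rfl
  haveI : IsScalarTower Γ(S, W.1) Γ(S', W'.1) Γ(X', O) := .of_algebraMap_eq fun a => congr($(hpo.w) a)
  haveI : Algebra.IsPushout Γ(S, W.1) Γ(X, V.1) Γ(S', W'.1) Γ(X', O) := CommRingCat.isPushout_iff_isPushout.mp hpo
  haveI : Algebra.IsPushout Γ(S, W.1) Γ(S', W'.1) Γ(X, V.1) Γ(X', O) := .symm inferInstance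
  let P := (Scheme.Modules.pullback p₁).obj F
  haveI : P.IsQuasicoherent := isQCoh_pullback_obj p₁ F
  letI := Flatmor4.sectionModule f F eV
  haveI : IsScalarTower Γ(S, W.1) Γ(X, V.1) Γ(F, V.1) := .of_algebraMap_smul fun _ _ => rfl
  letI : Module Γ(X, V.1) Γ(P, O) := Module.compHom _ (p₁.appLE V.1 O e₁).hom
  haveI : IsScalarTower Γ(X, V.1) Γ(X', O) Γ(P, O) := .of_algebraMap_smul fun _ _ => rfl
  letI : Module Γ(S', W'.1) Γ(P, O) := Module.compHom _ (p₂.appLE W'.1 O e₂).hom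
  haveI : IsScalarTower Γ(S', W'.1) Γ(X', O) Γ(P, O) := .of_algebraMap_smul fun _ _ => rfl
  letI := Flatmor4.sectionModule p₂ G e₂
  haveI : IsScalarTower Γ(S', W'.1) Γ(X', O) Γ(G, O) := .of_algebraMap_smul fun _ _ => rfl
  have hflat := flat_quot_of_flattens (R := Γ(S, W.1)) (R' := Γ(S', W'.1))
    (LocFree.pullSecₗ p₁ F e₁) (LocFree.isBaseChange_pullSecₗ p₁ F e₁ V.2 hO) hL hloc hrad
  have hexc : ((𝓘.comap f).comap p₁).ideal ⟨O, hO⟩ =
      Ideal.span {algebraMap Γ(S', W'.1) Γ(X', O) τ} := by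
    rw [comap_comap_eq H, Divisors.ideal_comap_affine _ p₂ W' ⟨O, hO⟩ e₂, hI, Ideal.map_span, Set.image_singleton]
    rfl
  haveI := hG.1
  let q := appₗ π O
  have hq : Function.Surjective q := app_surjective_of_epi π hO
  have hker : LinearMap.ker q = tors Γ(P, O) (algebraMap Γ(S', W'.1) Γ(X', O) τ) := by
    ext m
    exact (hG.2 ⟨O, hO⟩ m).trans (RefRank.StrictSheaf.killedByPowerNear_iff hexc m)
  exact @Module.Flat.of_linearEquiv _ _ _ _ _ _ _ _ hflat
    (((Submodule.quotEquivOfEq _ _ hker.symm).trans (q.quotKerEquivOfSurjective hq)).symm.restrictScalars Γ(S', W'.1))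

end Groth.RaynaudGruson.Flattening
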