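import Groth.Agent.RaynaudGruson.Flattening.Steps
import Groth.Agent.S1271

/-!
An ideal of the base whose blow-up makes given ideals of étale neighbourhoods locally principal.
-/

set_option autoImplicit false
set_option linter.style.haveILetI false
universe u

namespace Groth.RaynaudGruson.Flattening

open TensorProduct

/-- Being locally principal is local. -/
theorem locPrincipal_of_local {R : Type u} [CommRing R] {I : Ideal R}
    (h : ∀ P : Ideal R, P.IsPrime → ∃ g ∉ P, LocPrincipal (I.map (algebraMap R (Localization.Away g)))) :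
    LocPrincipal I := by
  intro P hP
  obtain ⟨g, hg, hL'⟩ := h P hP
  let L := Localization.Away g
  have hdisj : Disjoint (↑(Submonoid.powers g) : Set R) (P : Set R) :=
    Set.disjoint_left.mpr fun z ⟨n, hn⟩ hz => hg (hP.mem_of_pow_mem n ((show g ^ n = z from hn) ▸ hz))
  haveI := IsLocalization.isPrime_of_isPrime_disjoint (Submonoid.powers g) L P hP hdisj
  obtain ⟨w, hw, b, hb, hbdiv, hbann⟩ := hL' (P.map (algebraMap R L)) inferInstance
  obtain ⟨⟨⟨b₀, hb₀⟩, s⟩, hbs⟩ := (IsLocalization.mem_map_algebraMap_iff (Submonoid.powers g) L).mp hb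
  obtain ⟨⟨w₀, t⟩, hwt⟩ := IsLocalization.surj (Submonoid.powers g) w
  have hut := IsLocalization.map_units L t
  have hus := IsLocalization.map_units L s
  have hw₀ : w₀ ∉ P := fun h' => hw <| by
    have h1 : w * algebraMap R L t ∈ P.map (algebraMap R L) := hwt ▸ Ideal.mem_map_of_mem _ h'
    exact (Ideal.mul_unit_mem_iff_mem _ hut).mp h1
  refine ⟨g * w₀, fun h' => (hP.mem_or_mem h').elim hg hw₀, b₀, hb₀, fun x hx => ?_, fun y hy => ?_⟩
  · obtain ⟨k, y, hy⟩ := hbdiv _ (Ideal.mem_map_of_mem _ hx)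
    obtain ⟨⟨y₀, r⟩, hyr⟩ := IsLocalization.surj (Submonoid.powers g) y
    have h1 : algebraMap R L ((s * r : R) * (w₀ ^ k * x)) = algebraMap R L (b₀ * (y₀ * (t : R) ^ k)) := by
      have hwt' : algebraMap R L w₀ = w * algebraMap R L t := hwt.symm
      have hbs' : algebraMap R L b₀ = b * algebraMap R L s := hbs.symm
      have hyr' : algebraMap R L y₀ = y * algebraMap R L r := hyr.symm
      simp only [map_mul, map_pow, hwt', hbs', hyr']
      linear_combination (algebraMap R L s * algebraMap R L r * algebraMap R L t ^ k) * hy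
    obtain ⟨⟨_, l, rfl⟩, hl⟩ := (IsLocalization.eq_iff_exists (Submonoid.powers g) L).mp h1
    obtain ⟨i, hi⟩ := s.2
    obtain ⟨j, hj⟩ := r.2
    refine ⟨l + i + j + k, g ^ k * w₀ ^ (l + i + j) * (g ^ l * (y₀ * (t : R) ^ k)), ?_⟩
    have hi' : g ^ i = (s : R) := hi
    have hj' : g ^ j = (r : R) := hj
    calc (g * w₀) ^ (l + i + j + k) * x
        = g ^ k * w₀ ^ (l + i + j) * (g ^ l * ((g ^ i * g ^ j) * (w₀ ^ k * x))) := by ring
      _ = g ^ k * w₀ ^ (l + i + j) * (g ^ l * (b₀ * (y₀ * (t : R) ^ k))) := by rw [hi', hj', hl]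
      _ = b₀ * (g ^ k * w₀ ^ (l + i + j) * (g ^ l * (y₀ * (t : R) ^ k))) := by ring
  · have h1 : b * algebraMap R L y = 0 := by
      refine hus.mul_left_eq_zero.mp ?_
      rw [mul_right_comm, hbs, ← map_mul, hy, map_zero]
    obtain ⟨k, hk⟩ := hbann _ h1
    have h2 : algebraMap R L (w₀ ^ k * y) = 0 := by
      rw [map_mul, map_pow, ← hwt, mul_pow, mul_right_comm, hk, zero_mul]
    obtain ⟨⟨_, l, rfl⟩, hl⟩ := (IsLocalization.map_eq_zero_iff (Submonoid.powers g) L _).mp h2
    refine ⟨l + k, ?_⟩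
    calc (g * w₀) ^ (l + k) * y = g ^ k * w₀ ^ l * (g ^ l * (w₀ ^ k * y)) := by ring
      _ = 0 := by rw [hl, mul_zero]

variable {R : Type u} [CommRing R]

/-- On flat algebras over a test algebra of `L₀` the ideals `L i` become locally principal. -/
def PullbackPrincipal (L₀ : Ideal R) {ι : Type u} (Ri : ι → Type u) [∀ i, CommRing (Ri i)]
    [∀ i, Algebra R (Ri i)] (L : ∀ i, Ideal (Ri i)) : Prop :=
  ∀ (i : ι) (R' : Type u) [CommRing R'] [Algebra R R'], LocPrincipal (L₀.map (algebraMap R R')) →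
    ∀ (C : Type u) [CommRing C] [Algebra R C] [Algebra R' C] [IsScalarTower R R' C] [Module.Flat R' C]
      [Algebra (Ri i) C] [IsScalarTower R (Ri i) C], LocPrincipal ((L i).map (algebraMap (Ri i) C))

/-- The case of a principal centre. -/
theorem exists_pullbackPrincipal {a : R} (ha : a ∈ nonZeroDivisors R) {ι : Type u} [Fintype ι] (Ri : ι → Type u)
    [∀ i, CommRing (Ri i)] [∀ i, Algebra R (Ri i)] [∀ i, Algebra.Etale R (Ri i)] (L : ∀ i, Ideal (Ri i))
    (hfg : ∀ i, (L i).FG) (hrad : ∀ i, algebraMap R (Ri i) a ∈ (L i).radical) :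
    ∃ L₀ : Ideal R, L₀.FG ∧ L₀.radical = (Ideal.span {a}).radical ∧ PullbackPrincipal L₀ Ri L := by
  classical
  have hloc : ∀ i (q : Ideal (Ri i)), q.IsPrime → ∃ (I : Ideal R) (g : Ri i) (J' : Ideal (Localization.Away g)),
      I.FG ∧ a ∈ I.radical ∧ g ∉ q ∧ J'.FG ∧ I.map (algebraMap R (Localization.Away g)) =
        (L i).map (algebraMap (Ri i) (Localization.Away g)) * J' := fun i q hq => by
    haveI := hq
    exact Groth.Agent.S1271.result a ha (L i) (hfg i) (hrad i) q
  choose I g J' hIfg hIa hg hJ'fg hIJ using hloc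
  have hcover : ∀ i, ∃ s : Finset (PrimeSpectrum (Ri i)), ∀ q : PrimeSpectrum (Ri i), ∃ q₀ ∈ s,
      g i q₀.asIdeal q₀.2 ∉ q.asIdeal := by
    intro i
    obtain ⟨s, hs⟩ := isCompact_univ.elim_finite_subcover
      (fun q : PrimeSpectrum (Ri i) => (PrimeSpectrum.basicOpen (g i q.asIdeal q.2) : Set (PrimeSpectrum (Ri i))))
      (fun q => (PrimeSpectrum.basicOpen _).2) (fun q _ => Set.mem_iUnion.mpr ⟨q, hg i q.asIdeal q.2⟩)
    exact ⟨s, fun q => by simpa using hs (Set.mem_univ q)⟩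
  choose s hs using hcover
  let L₀ := Ideal.span {a} * ∏ j ∈ Finset.univ.sigma s, I j.1 j.2.asIdeal j.2.2
  have hrad₀ : L₀.radical = (Ideal.span {a}).radical := by
    refine le_antisymm (Ideal.radical_mono Ideal.mul_le_left) ?_
    rw [Ideal.radical_le_radical_iff, Ideal.span_singleton_le_iff_mem, Ideal.radical_eq_sInf, Submodule.mem_sInf]
    rintro p ⟨hle, hp⟩
    rcases hp.mul_le.mp hle with h | h
    · exact h (Ideal.mem_span_singleton_self a)
    · obtain ⟨j, -, hj⟩ := hp.prod_le.mp h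
      exact (hp.radical_le_iff.mpr hj) (hIa j.1 j.2.asIdeal j.2.2)
  refine ⟨L₀, (Submodule.fg_span_singleton a).mul (Finset.prod_induction _ (fun I : Ideal R => I.FG)
    (fun a b ha hb => ha.mul hb) (by rw [Ideal.one_eq_top]; exact Module.Finite.fg_top)
    fun j _ => hIfg j.1 j.2.asIdeal j.2.2), hrad₀, fun i R' _ _ hR' C _ _ _ _ _ _ _ => ?_⟩
  refine locPrincipal_of_local fun P hP => ?_
  obtain ⟨q₀, hq₀, hgq⟩ := hs i ⟨P.comap (algebraMap (Ri i) C), hP.comap _⟩
  let γ := g i q₀.asIdeal q₀.2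
  refine ⟨algebraMap (Ri i) C γ, hgq, ?_⟩
  let Cg := Localization.Away (algebraMap (Ri i) C γ)
  let ψ : Localization.Away γ →+* Cg :=
    IsLocalization.Away.lift γ (g := (algebraMap C Cg).comp (algebraMap (Ri i) C))
      (IsLocalization.Away.algebraMap_isUnit (algebraMap (Ri i) C γ))
  have hψ : ψ.comp (algebraMap (Ri i) (Localization.Away γ)) = (algebraMap C Cg).comp (algebraMap (Ri i) C) :=
    IsLocalization.Away.lift_comp γ _
  refine locPrincipal_of_mul (J := (J' i q₀.asIdeal q₀.2).map ψ) ?_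
  have h1 := congrArg (Ideal.map ψ) (hIJ i q₀.asIdeal q₀.2)
  rw [Ideal.map_mul, Ideal.map_map, Ideal.map_map, hψ] at h1
  rw [Ideal.map_map, ← h1, IsScalarTower.algebraMap_eq R (Ri i) (Localization.Away γ), ← RingHom.comp_assoc, hψ,
    RingHom.comp_assoc, ← IsScalarTower.algebraMap_eq]
  refine locPrincipal_of_mul (J := (Ideal.span {a} * ∏ j ∈ (Finset.univ.sigma s).erase ⟨i, q₀⟩,
    I j.1 j.2.asIdeal j.2.2).map ((algebraMap C Cg).comp (algebraMap R C))) ?_
  rw [← Ideal.map_mul, mul_left_comm,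
    Finset.mul_prod_erase _ (fun j : (i : ι) × PrimeSpectrum (Ri i) => I j.1 j.2.asIdeal j.2.2)
      (a := ⟨i, q₀⟩) (Finset.mem_sigma.mpr ⟨Finset.mem_univ _, hq₀⟩),
    IsScalarTower.algebraMap_eq R R' C, ← RingHom.comp_assoc, ← Ideal.map_map, ← IsScalarTower.algebraMap_eq]
  haveI : Module.Flat C Cg := IsLocalization.flat Cg (Submonoid.powers (algebraMap (Ri i) C γ))
  haveI : Module.Flat R' Cg := Module.Flat.trans R' C Cg
  exact hR'.map

/-- A finitely generated centre. -/
theorem exists_pullbackPrincipal_fg (J : Ideal R) (G : Finset R) (hJ : (Ideal.span (G : Set R)).radical = J.radical)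
    {ι : Type u} [Fintype ι] (Ri : ι → Type u) [∀ i, CommRing (Ri i)] [∀ i, Algebra R (Ri i)]
    [∀ i, Algebra.Etale R (Ri i)] (L : ∀ i, Ideal (Ri i)) (hfg : ∀ i, (L i).FG)
    (hrad : ∀ i, (L i).radical = (J.map (algebraMap R (Ri i))).radical) :
    ∃ L₀ : Ideal R, L₀.FG ∧ L₀.radical = J.radical ∧ PullbackPrincipal L₀ Ri L := by
  classical
  set K := Ideal.span (G : Set R) with hKdef
  have hxK : ∀ x : G, (x : R) ∈ K := fun x => Ideal.subset_span x.2
  have hcopy : ∀ x : G, ∃ (Rx : Type u) (_ : CommRing Rx) (_ : Algebra R Rx),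
      Nonempty (Rx ≃ₐ[R] BlowUp.affineAlgebra R K x) := fun x => ⟨_, inferInstance, inferInstance, ⟨AlgEquiv.refl⟩⟩
  choose C₁ _ _ hC₁ using hcopy
  let E := fun x => (hC₁ x).some
  have hnzd : ∀ x : G, algebraMap R (C₁ x) x ∈ nonZeroDivisors (C₁ x) := fun x => Misc3Fitt.copy_nzd (E x)
  have hspan : ∀ x : G, K.map (algebraMap R (C₁ x)) = Ideal.span {algebraMap R (C₁ x) x} := fun x =>
    le_antisymm (Ideal.map_le_iff_le_comap.2 fun z hz => Misc3Fitt.copy_mem_span (E x) hz)
      ((Ideal.span_singleton_le_iff_mem _).mpr (Ideal.mem_map_of_mem _ (hxK x)))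
  have hchart : ∀ x : G, ∃ Lx : Ideal (C₁ x), Lx.FG ∧
      Lx.radical = (Ideal.span {algebraMap R (C₁ x) x}).radical ∧
      PullbackPrincipal Lx (fun i => C₁ x ⊗[R] Ri i)
        (fun i => (L i).map (Algebra.TensorProduct.includeRight (R := R) (A := C₁ x) (B := Ri i)).toRingHom) := by
    intro x
    refine exists_pullbackPrincipal (hnzd x) (fun i => C₁ x ⊗[R] Ri i) _ (fun i => (hfg i).map _) fun i => ?_
    rw [← IsScalarTower.algebraMap_apply, ← (Algebra.TensorProduct.includeRight (R := R) (A := C₁ x) (B := Ri i)).commutes]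
    refine Ideal.map_radical_le _ (Ideal.mem_map_of_mem _ ?_)
    have hxJ : (x : R) ∈ J.radical := hJ ▸ Ideal.le_radical (hxK x)
    rw [hrad i]
    exact mem_radical_map hxJ
  choose Lx hLfg hLrad hLpp using hchart
  have hlift : ∀ x : G, ∃ (m e : ℕ) (Lt : Ideal R), Lt.FG ∧ K ^ e ≤ Lt ∧
      Lt.map (algebraMap R (C₁ x)) = Ideal.span {algebraMap R (C₁ x) x ^ m} * Lx x := fun x =>
    exists_pullback_chart K (Submodule.fg_span G.finite_toSet) (hxK x) (E x) (hspan x) (hLfg x)
      ((hLrad x).symm ▸ Ideal.le_radical (Ideal.mem_span_singleton_self _))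
  choose m e Lt hLtfg hLte hLtmap using hlift
  let L₀ := K * ∏ x, Lt x
  have hKL : L₀.radical = K.radical := radical_mul_prod K Lt e hLte
  refine ⟨L₀, (Submodule.fg_span G.finite_toSet).mul
    (Finset.prod_induction _ (fun I : Ideal R => I.FG) (fun a b ha hb => ha.mul hb)
      (by rw [Ideal.one_eq_top]; exact Module.Finite.fg_top) fun x _ => hLtfg x), hKL.trans hJ,
    fun i R' _ _ hR' C _ _ _ _ _ _ _ => ?_⟩
  have hKloc : LocPrincipal (K.map (algebraMap R R')) := by
    refine locPrincipal_of_mul (J := (∏ x, Lt x).map (algebraMap R R')) ?_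
    rw [← Ideal.map_mul]; exact hR'
  refine locPrincipal_of_local fun P hP => ?_
  set p := P.comap (algebraMap R' C) with hpdef
  obtain ⟨g, hg, b, hb, hdiv, hann⟩ := hKloc p (hP.comap _)
  obtain ⟨x, hxy⟩ : ∃ (x : G), ∃ (k : ℕ) (y : R'), y ∉ p ∧ g ^ k * algebraMap R R' x = b * y := by
    by_contra hcon
    push Not at hcon
    have hle : ∀ z ∈ K.map (algebraMap R R'), ∃ (k : ℕ) (y : R'), y ∈ p ∧ g ^ k * z = b * y := by
      intro z hz
      rw [hKdef, Ideal.map_span] at hz
      induction hz using Submodule.span_induction with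
      | mem z hz =>
        obtain ⟨x, hx, rfl⟩ := hz
        obtain ⟨k, y, hy⟩ := hdiv _ (Ideal.mem_map_of_mem (algebraMap R R') (hxK ⟨x, hx⟩))
        exact ⟨k, y, by by_contra hy'; exact hcon ⟨x, hx⟩ k y hy' hy, hy⟩
      | zero => exact ⟨0, 0, p.zero_mem, by simp⟩
      | add u v _ _ hu hv =>
        obtain ⟨k, y, hy, hk⟩ := hu
        obtain ⟨l, z, hz, hl⟩ := hv
        exact ⟨k + l, g ^ l * y + g ^ k * z, p.add_mem (p.mul_mem_left _ hy) (p.mul_mem_left _ hz), by
          rw [pow_add]; linear_combination (g ^ l) * hk + (g ^ k) * hl⟩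
      | smul c u _ hu =>
        obtain ⟨k, y, hy, hk⟩ := hu
        exact ⟨k, c * y, p.mul_mem_left _ hy, by rw [smul_eq_mul, mul_left_comm, hk]; ring⟩
    obtain ⟨k, y, hy, hk⟩ := hle b hb
    obtain ⟨l, hl⟩ := hann (g ^ k - y) (by rw [mul_sub, ← hk]; ring)
    have h1 : g ^ (l + k) ∈ p := by
      rw [pow_add, show g ^ l * g ^ k = g ^ l * y by linear_combination hl]
      exact p.mul_mem_left _ hy
    exact hg ((hP.comap (algebraMap R' C)).mem_of_pow_mem _ h1)
  obtain ⟨k, y, hy, hxy⟩ := hxy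
  have hgy : g * y ∉ p := fun h => ((hP.comap (algebraMap R' C)).mem_or_mem h).elim hg hy
  let c₀ := algebraMap R' C (g * y)
  refine ⟨c₀, hgy, ?_⟩
  obtain ⟨T, _, _, hTloc⟩ : ∃ (T : Type u) (_ : CommRing T) (_ : Algebra R' T), IsLocalization.Away (g * y) T :=
    ⟨Localization.Away (g * y), inferInstance, inferInstance, inferInstance⟩
  letI algRT : Algebra R T := ((algebraMap R' T).comp (algebraMap R R')).toAlgebra
  haveI : IsScalarTower R R' T := IsScalarTower.of_algebraMap_eq fun _ => rfl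
  have hu : IsUnit (algebraMap R' T g) ∧ IsUnit (algebraMap R' T y) := by
    rw [← IsUnit.mul_iff, ← map_mul]
    exact IsLocalization.Away.algebraMap_isUnit (g * y)
  have hxb : algebraMap R T x * algebraMap R' T g ^ k = algebraMap R' T b * algebraMap R' T y := by
    rw [IsScalarTower.algebraMap_apply R R' T, ← map_pow, ← map_mul, mul_comm, hxy, map_mul]
  have hbnzd : algebraMap R' T b ∈ nonZeroDivisors T := by
    rw [mem_nonZeroDivisors_iff_left]
    intro z hz
    obtain ⟨w, s, rfl⟩ := IsLocalization.exists_mk'_eq (Submonoid.powers (g * y)) z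
    rw [IsLocalization.mul_mk'_eq_mk'_of_mul, IsLocalization.mk'_eq_zero_iff] at hz
    obtain ⟨⟨_, l, rfl⟩, hl⟩ := hz
    obtain ⟨j, hj⟩ := hann ((g * y) ^ l * w) (by rw [mul_left_comm]; exact hl)
    refine (IsLocalization.mk'_eq_zero_iff _ _).2 ⟨⟨(g * y) ^ (j + l), _, rfl⟩, ?_⟩
    show (g * y) ^ (j + l) * w = 0
    rw [pow_add, mul_pow g y j, mul_comm (g ^ j), mul_assoc, mul_assoc, hj, mul_zero]
  have hxnzd : algebraMap R T x ∈ nonZeroDivisors T :=
    (mul_mem_nonZeroDivisors.mp (hxb ▸ mul_mem hbnzd hu.2.mem_nonZeroDivisors)).1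
  have hKT : K.map (algebraMap R T) ≤ Ideal.span {algebraMap R T x} := by
    have hbx : algebraMap R' T b ∈ Ideal.span {algebraMap R T x} := by
      refine (Ideal.mul_unit_mem_iff_mem _ hu.2).mp ?_
      rw [← hxb]
      exact Ideal.mul_mem_right _ _ (Ideal.mem_span_singleton_self _)
    refine Ideal.map_le_iff_le_comap.2 fun z hz => ?_
    rw [Ideal.mem_comap, IsScalarTower.algebraMap_apply R R' T z]
    obtain ⟨j, w, hw⟩ := hdiv _ (Ideal.mem_map_of_mem (algebraMap R R') hz)
    refine (Ideal.unit_mul_mem_iff_mem _ (hu.1.pow j)).mp ?_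
    rw [← map_pow, ← map_mul, hw, map_mul]
    exact Ideal.mul_mem_right _ _ hbx
  obtain ⟨ψ₀, hψ₀⟩ := BlowUpBasics.exists_ringHom_lift (I := K) (algebraMap R T) hxnzd hKT
  letI algxT : Algebra (C₁ x) T := (ψ₀.comp (E x).toRingEquiv.toRingHom).toAlgebra
  haveI : IsScalarTower R (C₁ x) T := IsScalarTower.of_algebraMap_eq fun r => by
    show _ = ψ₀ (E x (algebraMap R (C₁ x) r))
    rw [AlgEquiv.commutes]; exact (RingHom.congr_fun hψ₀ r).symm
  haveI : Module.Flat R' T := IsLocalization.flat T (Submonoid.powers (g * y))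
  have hTloc' : LocPrincipal ((Lx x).map (algebraMap (C₁ x) T)) := by
    refine locPrincipal_of_mul (J := (Ideal.span {algebraMap R (C₁ x) x ^ m x}).map (algebraMap (C₁ x) T)) ?_
    rw [← Ideal.map_mul, mul_comm, ← hLtmap, Ideal.map_map, ← IsScalarTower.algebraMap_eq R (C₁ x) T]
    refine locPrincipal_of_mul (J := (K * ∏ y ∈ Finset.univ.erase x, Lt y).map (algebraMap R T)) ?_
    rw [← Ideal.map_mul, mul_left_comm, Finset.mul_prod_erase _ _ (Finset.mem_univ x),
      IsScalarTower.algebraMap_eq R R' T, ← Ideal.map_map]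
    exact hR'.map
  let Ch := Localization.Away c₀
  letI algTC : Algebra T Ch :=
    (IsLocalization.Away.lift (g * y) (g := (algebraMap C Ch).comp (algebraMap R' C))
      (IsLocalization.Away.algebraMap_isUnit c₀)).toAlgebra
  haveI : IsScalarTower R' T Ch := IsScalarTower.of_algebraMap_eq fun r => by
    show algebraMap R' Ch r = IsLocalization.Away.lift (g * y) _ (algebraMap R' T r)
    rw [IsLocalization.Away.lift_eq, RingHom.comp_apply, ← IsScalarTower.algebraMap_apply]
  haveI : IsScalarTower R T Ch := IsScalarTower.of_algebraMap_eq fun r => by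
    rw [IsScalarTower.algebraMap_apply R R' T, ← IsScalarTower.algebraMap_apply R' T Ch,
      ← IsScalarTower.algebraMap_apply R R' Ch]
  haveI : Module.Flat C Ch := IsLocalization.flat Ch (Submonoid.powers c₀)
  haveI : Module.Flat R' Ch := Module.Flat.trans R' C Ch
  haveI : IsLocalization (Algebra.algebraMapSubmonoid C (Submonoid.powers (g * y))) Ch := by
    rw [Algebra.algebraMapSubmonoid, Submonoid.map_powers]; exact inferInstanceAs (IsLocalization.Away c₀ Ch)
  haveI : Module.Flat T Ch :=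
    (Module.flat_iff_of_isLocalization T (Submonoid.powers (g * y)) Ch).mpr ‹Module.Flat R' Ch›
  letI algxC : Algebra (C₁ x) Ch := ((algebraMap T Ch).comp (algebraMap (C₁ x) T)).toAlgebra
  haveI : IsScalarTower (C₁ x) T Ch := IsScalarTower.of_algebraMap_eq fun _ => rfl
  haveI : IsScalarTower R (C₁ x) Ch := IsScalarTower.of_algebraMap_eq fun r => by
    show _ = algebraMap T Ch (algebraMap (C₁ x) T (algebraMap R (C₁ x) r))
    rw [← IsScalarTower.algebraMap_apply R (C₁ x) T, ← IsScalarTower.algebraMap_apply R T Ch]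
  let ρ : C₁ x ⊗[R] Ri i →ₐ[C₁ x] Ch :=
    Algebra.TensorProduct.lift (Algebra.ofId (C₁ x) Ch) (IsScalarTower.toAlgHom R (Ri i) Ch)
      fun _ _ => Commute.all _ _
  letI : Algebra (C₁ x ⊗[R] Ri i) Ch := ρ.toRingHom.toAlgebra
  haveI : IsScalarTower (C₁ x) (C₁ x ⊗[R] Ri i) Ch := IsScalarTower.of_algebraMap_eq fun r => (ρ.commutes r).symm
  have h := hLpp x i T hTloc' Ch
  rw [Ideal.map_map] at h
  rw [Ideal.map_map]
  convert h using 2
  refine RingHom.ext fun r => ?_
  show algebraMap C Ch (algebraMap (Ri i) C r) = ρ ((1 : C₁ x) ⊗ₜ[R] r)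
  rw [Algebra.TensorProduct.lift_tmul, map_one, one_mul, IsScalarTower.toAlgHom_apply,
    ← IsScalarTower.algebraMap_apply]

end Groth.RaynaudGruson.Flattening
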