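import Groth.Agent.RaynaudGruson.Flattening.BaseChange
import Groth.Agent.RaynaudGruson.Flattening.EtaleIdeal

/-!
Gluing flattening ideals along étale neighbourhoods of the base and flat covers of the module.
-/

set_option autoImplicit false
set_option linter.style.haveILetI false
universe u

namespace Groth.RaynaudGruson.Flattening

open TensorProduct

attribute [local instance] Algebra.TensorProduct.rightAlgebra

section Piece

variable {R A : Type u} [CommRing R] [CommRing A] [Algebra R A]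
  {M : Type u} [AddCommGroup M] [Module A M] [Module R M] [IsScalarTower R A M]

omit [Module R M] [IsScalarTower R A M] in
/-- One piece of the cover. -/
theorem flat_piece {R₁ A₁ : Type u} [CommRing R₁] [CommRing A₁] [Algebra R R₁] [Module.Flat R R₁] [Algebra A A₁]
    [Module.Flat A A₁] [Algebra R A₁] [IsScalarTower R A A₁] [Algebra R₁ A₁] [IsScalarTower R R₁ A₁]
    {L₁ : Ideal R₁} (hfl : Flattens L₁ (A₁ ⊗[A] M))
    {R' : Type u} [CommRing R'] [Algebra R R'] {τ : R'}
    (hloc : LocPrincipal (L₁.map (algebraMap R₁ (R' ⊗[R] R₁))))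
    (hrad : (L₁.map (algebraMap R₁ (R' ⊗[R] R₁))).radical =
      (Ideal.span {algebraMap R' (R' ⊗[R] R₁) τ}).radical)
    (Q' : Ideal (R' ⊗[R] A)) [Q'.IsPrime]
    (hQ : ∃ Q₁ : Ideal A₁, Q₁.IsPrime ∧ Q₁.comap (algebraMap A A₁) = Q'.comap (algebraMap A (R' ⊗[R] A))) :
    ∃ (B : Type u) (_ : CommRing B) (_ : Algebra (R' ⊗[R] A) B) (_ : Algebra R' B)
      (_ : IsScalarTower R' (R' ⊗[R] A) B), Module.Flat (R' ⊗[R] A) B ∧
      (∃ Q : Ideal B, Q.IsPrime ∧ Q.comap (algebraMap (R' ⊗[R] A) B) = Q') ∧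
      Module.Flat R' (B ⊗[R' ⊗[R] A] (((R' ⊗[R] A) ⊗[A] M) ⧸
        tors ((R' ⊗[R] A) ⊗[A] M) (algebraMap R' (R' ⊗[R] A) τ))) := by
  let A' := R' ⊗[R] A
  let B := R' ⊗[R] A₁
  let T := R' ⊗[R] R₁
  letI algA'B : Algebra A' B :=
    (Algebra.TensorProduct.map (AlgHom.id R' R') (IsScalarTower.toAlgHom R A A₁)).toRingHom.toAlgebra
  letI algTB : Algebra T B :=
    (Algebra.TensorProduct.map (AlgHom.id R' R') (IsScalarTower.toAlgHom R R₁ A₁)).toRingHom.toAlgebra
  letI algAB : Algebra A B := ((algebraMap A₁ B).comp (algebraMap A A₁)).toAlgebra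
  haveI : IsScalarTower A A₁ B := IsScalarTower.of_algebraMap_eq fun _ => rfl
  haveI : IsScalarTower A A' B := IsScalarTower.of_algebraMap_eq fun a => by
    show (1 : R') ⊗ₜ[R] algebraMap A A₁ a =
      Algebra.TensorProduct.map (AlgHom.id R' R') (IsScalarTower.toAlgHom R A A₁) ((1 : R') ⊗ₜ[R] a)
    simp
  letI algR₁B : Algebra R₁ B := ((algebraMap A₁ B).comp (algebraMap R₁ A₁)).toAlgebra
  haveI : IsScalarTower R₁ A₁ B := IsScalarTower.of_algebraMap_eq fun _ => rfl
  haveI : IsScalarTower R₁ T B := IsScalarTower.of_algebraMap_eq fun r => by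
    show (1 : R') ⊗ₜ[R] algebraMap R₁ A₁ r =
      Algebra.TensorProduct.map (AlgHom.id R' R') (IsScalarTower.toAlgHom R R₁ A₁) ((1 : R') ⊗ₜ[R] r)
    simp
  haveI : IsScalarTower R' A' B := IsScalarTower.of_algebraMap_eq fun r => by
    show r ⊗ₜ[R] (1 : A₁) = Algebra.TensorProduct.map (AlgHom.id R' R') (IsScalarTower.toAlgHom R A A₁) (r ⊗ₜ[R] 1)
    simp
  haveI : IsScalarTower R' T B := IsScalarTower.of_algebraMap_eq fun r => by
    show r ⊗ₜ[R] (1 : A₁) = Algebra.TensorProduct.map (AlgHom.id R' R') (IsScalarTower.toAlgHom R R₁ A₁) (r ⊗ₜ[R] 1)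
    simp
  haveI : IsScalarTower R A B := IsScalarTower.of_algebraMap_eq fun r => by
    rw [IsScalarTower.algebraMap_apply R A₁ B, IsScalarTower.algebraMap_apply R A A₁, ← IsScalarTower.algebraMap_apply A A₁ B]
  haveI : IsScalarTower R R₁ B := IsScalarTower.of_algebraMap_eq fun r => by
    rw [IsScalarTower.algebraMap_apply R A₁ B, IsScalarTower.algebraMap_apply R R₁ A₁, ← IsScalarTower.algebraMap_apply R₁ A₁ B]
  haveI : IsScalarTower R A' B := IsScalarTower.of_algebraMap_eq fun r => by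
    rw [IsScalarTower.algebraMap_apply R R' B, IsScalarTower.algebraMap_apply R R' A', ← IsScalarTower.algebraMap_apply R' A' B]
  haveI : IsScalarTower R T B := IsScalarTower.of_algebraMap_eq fun r => by
    rw [IsScalarTower.algebraMap_apply R R' B, IsScalarTower.algebraMap_apply R R' T, ← IsScalarTower.algebraMap_apply R' T B]
  haveI : Algebra.IsPushout R A R' A' := Algebra.IsPushout.symm inferInstance
  haveI : Algebra.IsPushout R R₁ R' T := Algebra.IsPushout.symm inferInstance
  haveI hA₁B : Algebra.IsPushout A A₁ A' B :=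
    (Algebra.IsPushout.comp_iff (R := R) (S := A) (T := A₁) (R' := R') (S' := A') (T' := B)).mp
      (Algebra.IsPushout.symm inferInstance)
  haveI : Algebra.IsPushout R₁ A₁ T B :=
    (Algebra.IsPushout.comp_iff (R := R) (S := R₁) (T := A₁) (R' := R') (S' := T) (T' := B)).mp
      (Algebra.IsPushout.symm inferInstance)
  haveI : Algebra.IsPushout A A' A₁ B := Algebra.IsPushout.symm hA₁B
  haveI : Algebra.IsPushout R₁ T A₁ B := Algebra.IsPushout.symm inferInstance
  haveI hBflat : Module.Flat A' B := Module.Flat.isBaseChange A A' A₁ B Algebra.IsPushout.out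
  haveI : Module.Flat R' T := inferInstance
  refine ⟨B, inferInstance, algA'B, inferInstance, inferInstance, hBflat, ?_, ?_⟩
  · -- a prime above `Q'`
    obtain ⟨Q₁, hQ₁, hQQ⟩ := hQ
    let Q := Q'.comap (algebraMap A A')
    suffices hnt : Nontrivial (Q'.ResidueField ⊗[A'] B) by
      obtain ⟨w, hw⟩ := (PrimeSpectrum.nontrivial_iff_mem_rangeComap (S := B) ⟨Q', ‹_›⟩).mp hnt
      exact ⟨w.asIdeal, w.2, congrArg PrimeSpectrum.asIdeal hw⟩
    haveI : Nontrivial (Q.ResidueField ⊗[A] A₁) :=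
      (PrimeSpectrum.nontrivial_iff_mem_rangeComap (S := A₁) ⟨Q, inferInstance⟩).mpr ⟨⟨Q₁, hQ₁⟩, PrimeSpectrum.ext hQQ⟩
    let j : Q.ResidueField →ₐ[A] Q'.ResidueField :=
      Ideal.ResidueField.mapₐ Q Q' (Algebra.ofId A A') rfl
    have hj : Function.Injective (j.toLinearMap.rTensor A₁) :=
      Module.Flat.rTensor_preserves_injective_linearMap _ j.toRingHom.injective
    haveI : Nontrivial (Q'.ResidueField ⊗[A] A₁) := hj.nontrivial
    exact ((TensorProduct.comm A' Q'.ResidueField B).toEquiv.trans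
      ((Algebra.IsPushout.cancelBaseChange A A₁ A' B Q'.ResidueField).toEquiv.trans
        (TensorProduct.comm A A₁ Q'.ResidueField).toEquiv)).nontrivial
  -- flatness
  let M'' := A' ⊗[A] M
  let MB := B ⊗[A'] M''
  let ψ : M'' →ₗ[A'] MB := TensorProduct.mk A' B M'' 1
  have hψ : IsBaseChange B ψ := TensorProduct.isBaseChange A' M'' B
  have hMB := (TensorProduct.isBaseChange A M A').comp hψ
  haveI : IsScalarTower A A₁ MB := IsScalarTower.of_algebraMap_smul fun a z => by
    rw [← algebraMap_smul B (algebraMap A A₁ a) z, ← IsScalarTower.algebraMap_apply, algebraMap_smul]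
  haveI : IsScalarTower R₁ T MB := IsScalarTower.of_algebraMap_smul fun a z => by
    rw [← algebraMap_smul B (algebraMap R₁ T a) z, ← IsScalarTower.algebraMap_apply, algebraMap_smul]
  haveI : IsScalarTower R₁ A₁ MB := IsScalarTower.of_algebraMap_smul fun a z => by
    rw [← algebraMap_smul B (algebraMap R₁ A₁ a) z, ← IsScalarTower.algebraMap_apply, algebraMap_smul]
  let χ := (TensorProduct.isBaseChange A M A₁).lift ((ψ.restrictScalars A) ∘ₗ TensorProduct.mk A A' M 1)
  have hχ : IsBaseChange B χ := by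
    refine IsBaseChange.of_comp (TensorProduct.isBaseChange A M A₁) ?_
    rw [IsBaseChange.lift_comp]
    exact hMB
  have hflT := hfl.flat_of_locPrincipal hloc hrad (χ.restrictScalars R₁) (isBaseChange_of_pushout χ hχ)
  have hτ : algebraMap A' B (algebraMap R' A' τ) = algebraMap T B (algebraMap R' T τ) := by
    rw [← IsScalarTower.algebraMap_apply, ← IsScalarTower.algebraMap_apply]
  have hb := isBaseChange_torsMap (τ := algebraMap R' A' τ) hψ
    (tensor_tors_free_of_flat_algebra (τ := algebraMap R' A' τ))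
  haveI : IsScalarTower R' T MB := IsScalarTower.of_algebraMap_smul fun a z => by
    rw [← algebraMap_smul B (algebraMap R' T a) z, ← IsScalarTower.algebraMap_apply, algebraMap_smul]
  have heq : tors MB (algebraMap R' T τ) = (tors MB (algebraMap A' B (algebraMap R' A' τ))).restrictScalars T := by
    ext z
    simp only [Submodule.restrictScalars_mem, mem_tors]
    refine exists_congr fun n => ?_
    rw [hτ, ← map_pow (algebraMap T B), algebraMap_smul]
  haveI : Module.Flat T (MB ⧸ tors MB (algebraMap A' B (algebraMap R' A' τ))) :=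
    Module.Flat.of_linearEquiv
      ((Submodule.quotEquivOfEq _ _ heq).trans (Submodule.Quotient.restrictScalarsEquiv T _)).symm
  haveI : Module.Flat R' (MB ⧸ tors MB (algebraMap A' B (algebraMap R' A' τ))) := Module.Flat.trans R' T _
  exact Module.Flat.of_linearEquiv (hb.equiv.restrictScalars R')

/-- **Gluing.** -/
theorem flattens_glue {J L₀ : Ideal R} (hrad₀ : L₀.radical = J.radical) {ι : Type u} (Ri : ι → Type u)
    [∀ i, CommRing (Ri i)] [∀ i, Algebra R (Ri i)] [∀ i, Module.Flat R (Ri i)] (L : ∀ i, Ideal (Ri i))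
    (hrad : ∀ i, (L i).radical = (J.map (algebraMap R (Ri i))).radical)
    (hL : PullbackPrincipal L₀ Ri L) {κ : Type u} (σ : κ → ι) (Ai : κ → Type u) [∀ j, CommRing (Ai j)]
    [∀ j, Algebra A (Ai j)] [∀ j, Module.Flat A (Ai j)] [∀ j, Algebra R (Ai j)] [∀ j, IsScalarTower R A (Ai j)]
    [∀ j, Algebra (Ri (σ j)) (Ai j)] [∀ j, IsScalarTower R (Ri (σ j)) (Ai j)]
    (hfl : ∀ j, Flattens (L (σ j)) (Ai j ⊗[A] M))
    (hcov : ∀ Q : Ideal A, Q.IsPrime → (∃ m : M, ∀ s ∉ Q, s • m ≠ 0) →
      ∃ (j : κ) (Qi : Ideal (Ai j)), Qi.IsPrime ∧ Qi.comap (algebraMap A (Ai j)) = Q) :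
    Flattens L₀ M := by
  intro R' _ _ τ hτ hI M' _ _ _ _ φ hφ
  let A' := R' ⊗[R] A
  let M'' := A' ⊗[A] M
  haveI : Algebra.IsPushout R R' A A' := inferInstance
  have hφ'' : IsBaseChange R' ((TensorProduct.mk A A' M 1).restrictScalars R) :=
    isBaseChange_of_pushout (TensorProduct.mk A A' M 1) (TensorProduct.isBaseChange A M A')
  let e : M'' ≃ₗ[R'] M' := hφ''.equiv.symm.trans hφ.equiv
  have hτA : tors M'' τ = (tors M'' (algebraMap R' A' τ)).restrictScalars R' := by
    ext z
    simp only [Submodule.restrictScalars_mem, mem_tors, ← map_pow, algebraMap_smul]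
  obtain ⟨eq₁⟩ := nonempty_quotTorsEquiv (τ := τ) e.toLinearMap e.surjective (by
    rw [LinearEquiv.ker]; exact bot_le)
  suffices hmain : Module.Flat R' (M'' ⧸ tors M'' (algebraMap R' A' τ)) from
    Module.Flat.of_linearEquiv (eq₁.symm.trans
      ((Submodule.quotEquivOfEq _ _ hτA).trans (Submodule.Quotient.restrictScalarsEquiv R' _)))
  refine flat_descend (R := R') (A := A') fun Q' hQ' hsupp => ?_
  let Q := Q'.comap (algebraMap A A')
  have hQsupp : ∃ m : M, ∀ t ∉ Q, t • m ≠ 0 := by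
    by_contra hcon
    push Not at hcon
    obtain ⟨n, hn⟩ := hsupp
    obtain ⟨z, rfl⟩ := Submodule.Quotient.mk_surjective _ n
    suffices ∃ t ∉ Q', t • z = 0 by
      obtain ⟨t, ht, htz⟩ := this
      exact hn t ht (by rw [← Submodule.Quotient.mk_smul, htz, Submodule.Quotient.mk_zero])
    clear hn
    induction z using TensorProduct.induction_on with
    | zero => exact ⟨1, Q'.one_notMem, smul_zero _⟩
    | tmul w m =>
      obtain ⟨t, ht, htm⟩ := hcon m
      exact ⟨algebraMap A A' t, ht, by rw [algebraMap_smul, ← TensorProduct.tmul_smul, htm, TensorProduct.tmul_zero]⟩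
    | add x y hx hy =>
      obtain ⟨t, ht, htx⟩ := hx
      obtain ⟨t', ht', hty⟩ := hy
      exact ⟨t * t', fun h' => (hQ'.mem_or_mem h').elim ht ht', by
        rw [smul_add, mul_smul, mul_smul, hty, smul_zero, smul_comm, htx, smul_zero, add_zero]⟩
  obtain ⟨j, Qi, hQi, hQiQ⟩ := hcov Q (hQ'.comap _) hQsupp
  let T := R' ⊗[R] Ri (σ j)
  have hloc : LocPrincipal (L₀.map (algebraMap R R')) := by rw [hI]; exact locPrincipal_span hτ
  have hradT : ((L (σ j)).map (algebraMap (Ri (σ j)) T)).radical = (Ideal.span {algebraMap R' T τ}).radical := by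
    rw [radical_map_congr (R' := T) (hrad (σ j)), ← Set.image_singleton, ← Ideal.map_span, ← hI, Ideal.map_map,
      Ideal.map_map, ← IsScalarTower.algebraMap_eq, ← IsScalarTower.algebraMap_eq]
    exact radical_map_congr hrad₀.symm
  exact flat_piece (M := M) (R₁ := Ri (σ j)) (A₁ := Ai j) (hfl j) (hL (σ j) R' hloc T) hradT Q' ⟨Qi, hQi, hQiQ⟩

end Piece

end Groth.RaynaudGruson.Flattening
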