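import Groth.Agent.RaynaudGruson.Flattening.Scheme
import Groth.Agent.RaynaudGruson.Flattening.Sections
import Groth.Agent.RaynaudGruson.Flattening.Away
import Groth.Agent.RaynaudGruson.Flattening.Glue
import Mathlib.AlgebraicGeometry.Morphisms.Etale

/-!
A flattening admissible blow-up from flattening blow-ups étale locally.
-/

set_option autoImplicit false
set_option linter.style.haveILetI false
universe u

open CategoryTheory CategoryTheory.Limits AlgebraicGeometry TopologicalSpace Opposite Groth.QCohMod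

namespace Groth.RaynaudGruson.Flattening

open TensorProduct in
/-- Base change of a flat strict transform. -/
theorem flat_quot_of_flat_quot {R₁ R'' M₁ M'' : Type u} [CommRing R₁] [CommRing R''] [Algebra R₁ R'']
    [AddCommGroup M₁] [Module R₁ M₁] [AddCommGroup M''] [Module R₁ M''] [Module R'' M''] [IsScalarTower R₁ R'' M'']
    (χ : M₁ →ₗ[R₁] M'') (hχ : IsBaseChange R'' χ) {t : R₁} [Module.Flat R₁ (M₁ ⧸ tors M₁ t)] {τ : R''}
    (hτ : τ ∈ nonZeroDivisors R'') (hmem : τ ∈ (Ideal.span {algebraMap R₁ R'' t}).radical) :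
    Module.Flat R'' (M'' ⧸ tors M'' τ) := by
  let Q := M₁ ⧸ tors M₁ t
  let f : M'' →ₗ[R''] R'' ⊗[R₁] Q := (tors M₁ t).mkQ.baseChange R'' ∘ₗ hχ.equiv.symm.toLinearMap
  have hf : Function.Surjective f :=
    (LinearMap.lTensor_surjective R'' (tors M₁ t).mkQ_surjective).comp hχ.equiv.symm.surjective
  have hker : LinearMap.ker f ≤ tors M'' τ := fun z hz => by
    obtain ⟨n, hn⟩ := ker_baseChange_le_tors (R' := R'') (τ := τ) (tors M₁ t).mkQ (Submodule.mkQ_surjective _)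
      (Submodule.ker_mkQ _).le hmem hz
    exact ⟨n, hχ.equiv.symm.injective (by rw [map_smul, map_zero]; exact hn)⟩
  obtain ⟨e⟩ := nonempty_quotTorsEquiv f hf hker
  have hbot : tors (R'' ⊗[R₁] Q) τ = ⊥ := by
    rw [eq_bot_iff]
    rintro m ⟨n, hn⟩
    exact Module.Flat.isSMulRegular_of_nonZeroDivisors (pow_mem hτ n) (hn.trans (smul_zero _).symm)
  exact Module.Flat.of_linearEquiv (e.trans (Submodule.quotEquivOfEqBot _ hbot))

theorem isEffCartier_of_locPrincipal {T : CommRingCat.{u}} {S : Scheme.{u}} {I : S.IdealSheafData}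
    {W : S.affineOpens} (φ : Γ(S, W.1) ⟶ T) (hI : LocPrincipal ((I.ideal W).map φ.hom)) :
    BlowUp.IsEffCartierIdeal (I.comap (Spec.map φ ≫ W.2.fromSpec)) := by
  intro z
  obtain ⟨g, hg, σ, hσ, hmap⟩ := @LocPrincipal.exists_away _ _ _ hI z.asIdeal z.2
  let Tg := CommRingCat.of (Localization.Away g)
  let j : Spec Tg ⟶ Spec T := Spec.map (CommRingCat.ofHom (algebraMap T Tg))
  haveI : IsOpenImmersion j := IsOpenImmersion.of_isLocalization g
  let O : (Spec T).affineOpens := ⟨j.opensRange, isAffineOpen_opensRange j⟩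
  have hz : z ∈ O.1 := by
    show z ∈ Set.range j
    rw [show Set.range j = (PrimeSpectrum.basicOpen g : Set (PrimeSpectrum T)) from
      PrimeSpectrum.localization_away_comap_range _ g]
    exact hg
  refine ⟨O, hz, ?_⟩
  have hj : j ''ᵁ ⊤ = O.1 := j.image_top_eq_opensRange
  let e : Γ(Spec T, O.1) ≅ Tg :=
    (Spec T).presheaf.mapIso (eqToIso hj).op ≪≫ j.appIso ⊤ ≪≫ Scheme.ΓSpecIso Tg
  refine ⟨e.inv σ, ?_, ?_⟩
  · rw [mem_nonZeroDivisors_iff_left]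
    intro w hw
    have h1 : σ * e.hom w = 0 := by
      rw [show σ = e.hom (e.inv σ) from (Iso.inv_hom_id_apply e σ).symm, ← map_mul, hw, map_zero]
    rw [← Iso.hom_inv_id_apply e w, (mem_nonZeroDivisors_iff_left.mp hσ) _ h1, map_zero]
  · have hcomap : ((I.comap (Spec.map φ ≫ W.2.fromSpec)).ideal O).map e.hom.hom = Ideal.span {σ} := by
      have e' : (⊤ : (Spec Tg).Opens) ≤ j ⁻¹ᵁ O.1 := fun y _ => ⟨y, rfl⟩
      have he : e.hom = j.appLE O.1 ⊤ e' ≫ (Scheme.ΓSpecIso Tg).hom := by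
        simp only [e, Iso.trans_hom, Functor.mapIso_hom, Iso.op_hom, eqToIso.hom]
        rw [← Category.assoc]
        congr 1
        rw [Scheme.Hom.appIso_hom', Scheme.Hom.map_appLE]
      rw [he, CommRingCat.hom_comp, ← Ideal.map_map,
        ← Divisors.ideal_comap_affine _ j O ⟨⊤, isAffineOpen_top _⟩ e', ← Scheme.IdealSheafData.comap_comp,
        ← Category.assoc, show j ≫ Spec.map φ = Spec.map (φ ≫ CommRingCat.ofHom (algebraMap T Tg)) from
          (Spec.map_comp _ _).symm]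
      have e'' : (⊤ : (Spec Tg).Opens) ≤
          (Spec.map (φ ≫ CommRingCat.ofHom (algebraMap T Tg)) ≫ W.2.fromSpec) ⁻¹ᵁ W.1 := fun y _ => by
        have : (Spec.map (φ ≫ CommRingCat.ofHom (algebraMap T Tg)) ≫ W.2.fromSpec) y ∈ Set.range W.2.fromSpec :=
          ⟨_, rfl⟩
        rwa [W.2.range_fromSpec] at this
      rw [Divisors.ideal_comap_affine I _ W ⟨⊤, isAffineOpen_top _⟩ e'', Ideal.map_map, ← CommRingCat.hom_comp,
        show (Spec.map (φ ≫ CommRingCat.ofHom (algebraMap T Tg)) ≫ W.2.fromSpec).appLE W.1 ⊤ e'' ≫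
          (Scheme.ΓSpecIso Tg).hom = φ ≫ CommRingCat.ofHom (algebraMap T Tg) from ?_,
        CommRingCat.hom_comp, ← Ideal.map_map]
      · exact hmap
      · rw [Scheme.Hom.comp_appLE, W.2.fromSpec_app_self, Category.assoc, Category.assoc, Scheme.Hom.map_appLE_assoc,
          show ∀ h, (Spec.map (φ ≫ CommRingCat.ofHom (algebraMap T Tg))).appLE ⊤ ⊤ h =
            (Spec.map (φ ≫ CommRingCat.ofHom (algebraMap T Tg))).appTop from fun _ => (Scheme.Hom.app_eq_appLE _).symm,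
          Scheme.ΓSpecIso_naturality, Iso.inv_hom_id_assoc]
    have := congrArg (Ideal.map e.inv.hom) hcomap
    rwa [Ideal.map_map, ← CommRingCat.hom_comp, e.hom_inv_id, CommRingCat.hom_id, Ideal.map_id, Ideal.map_span,
      Set.image_singleton] at this

set_option maxHeartbeats 1000000 in
/-- A flattening blow-up gives flattening ideals on affine pieces. -/
theorem flattens_of_blowUp_flat {X S Sst : Scheme.{u}} (g : X ⟶ S) (F : X.Modules) [F.IsQuasicoherent]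
    {𝓘 : S.IdealSheafData} (hft : BlowUp.IsFiniteTypeIdeal 𝓘) {b : Sst ⟶ S} (hb : BlowUp.IsBlowUp b 𝓘)
    (hflat : ∀ (X' : Scheme.{u}) (p₁ : X' ⟶ X) (p₂ : X' ⟶ Sst), IsPullback p₁ p₂ g b →
      ∀ (G : X'.Modules) (π : (Scheme.Modules.pullback p₁).obj F ⟶ G),
        BlowUp.IsStrictTransform p₁ (𝓘.comap g) F G π → FlatMod.IsFlatOver p₂ G)
    {W : S.affineOpens} {V : X.affineOpens} (eV : V.1 ≤ g ⁻¹ᵁ W.1) {L J : Ideal Γ(S, W.1)}
    (hL : L = 𝓘.ideal W * J) :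
    letI := Flatmor4.sectionModule g F eV
    Flattens L Γ(F, V.1) := by
  letI := Flatmor4.sectionModule g F eV
  intro R' _ _ τ hτ hI M' _ _ _ _ φ hφ
  let p₁ := pullback.fst g b
  let p₂ := pullback.snd g b
  have H : IsPullback p₁ p₂ g b := IsPullback.of_hasPullback g b
  obtain ⟨G, π, hG⟩ := exists_strictTransform p₁ (𝓘.comap g) F
    (RefRank.isFiniteTypeIdeal_comap p₁ (RefRank.isFiniteTypeIdeal_comap g hft))
  haveI := isQCoh_strictTransform H hb.1 hG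
  have hGflat := hflat _ p₁ p₂ H G π hG
  -- the test algebra maps to the blow-up
  let hS : Spec (CommRingCat.of R') ⟶ S :=
    Spec.map (CommRingCat.ofHom (algebraMap Γ(S, W.1) R')) ≫ W.2.fromSpec
  have hloc : LocPrincipal ((𝓘.ideal W).map (algebraMap Γ(S, W.1) R')) := by
    refine locPrincipal_of_mul (J := J.map (algebraMap Γ(S, W.1) R')) ?_
    rw [← Ideal.map_mul, ← hL, hI]
    exact locPrincipal_span hτ
  obtain ⟨kk, hkk, -⟩ := hb.2 _ hS (isEffCartier_of_locPrincipal _ hloc)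
  refine flat_descend (R := R') (A := R') fun P hP _ => ?_
  let z : Spec (CommRingCat.of R') := ⟨P, hP⟩
  have hzW : kk z ∈ b ⁻¹ᵁ W.1 := by
    show b (kk z) ∈ W.1
    rw [← Scheme.Hom.comp_apply, hkk]
    have : hS z ∈ Set.range W.2.fromSpec := ⟨_, rfl⟩
    rwa [W.2.range_fromSpec] at this
  obtain ⟨W₁, hzW₁, eW, t, -, hIt⟩ := Divisors.exists_generator hb.1 (kk z) _ hzW
  obtain ⟨_, ⟨_, ⟨γ, rfl⟩, rfl⟩, hzγ, hγle⟩ := PrimeSpectrum.isBasis_basic_opens.exists_subset_of_mem_open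
    (show (z : PrimeSpectrum R') ∈ (kk ⁻¹ᵁ W₁.1 : (Spec (CommRingCat.of R')).Opens) from hzW₁)
    (kk ⁻¹ᵁ W₁.1).2
  let R'' := Localization.Away γ
  have hγP : γ ∉ P := hzγ
  have hdisj : Disjoint (↑(Submonoid.powers γ) : Set R') (P : Set R') :=
    Set.disjoint_left.mpr fun w ⟨n, hn⟩ hw => hγP (hP.mem_of_pow_mem n ((show γ ^ n = w from hn) ▸ hw))
  refine ⟨R'', inferInstance, inferInstance, inferInstance, inferInstance, IsLocalization.flat R'' (Submonoid.powers γ),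
    ⟨P.map (algebraMap R' R''), IsLocalization.isPrime_of_isPrime_disjoint (Submonoid.powers γ) R'' P hP hdisj,
      IsLocalization.under_map_of_isPrime_disjoint (Submonoid.powers γ) R'' hP hdisj⟩, ?_⟩
  haveI : Module.Flat R' R'' := IsLocalization.flat R'' (Submonoid.powers γ)
  let T'' := CommRingCat.of R''
  let k' : Spec T'' ⟶ Sst := Spec.map (CommRingCat.ofHom (algebraMap R' R'')) ≫ kk
  have hrange : Set.range k' ⊆ Set.range W₁.2.fromSpec := by
    rw [W₁.2.range_fromSpec]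
    rintro _ ⟨w, rfl⟩
    refine hγle ?_
    rw [← PrimeSpectrum.localization_away_comap_range R'' γ]
    exact ⟨w, rfl⟩
  let φ₁ : Γ(Sst, W₁.1) ⟶ T'' := Spec.preimage (IsOpenImmersion.lift W₁.2.fromSpec k' hrange)
  have hφ₁ : Spec.map φ₁ ≫ W₁.2.fromSpec = k' := by
    rw [Spec.map_preimage]; exact IsOpenImmersion.lift_fac _ _ _
  have hcomm : b.appLE W.1 W₁.1 eW ≫ φ₁ =
      CommRingCat.ofHom ((algebraMap R' R'').comp (algebraMap Γ(S, W.1) R')) := by
    refine Spec.map_injective ?_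
    rw [← cancel_mono W.2.fromSpec, Spec.map_comp, Category.assoc, IsAffineOpen.SpecMap_appLE_fromSpec b W.2 W₁.2 eW,
      reassoc_of% hφ₁, show CommRingCat.ofHom ((algebraMap R' R'').comp (algebraMap Γ(S, W.1) R')) =
        CommRingCat.ofHom (algebraMap Γ(S, W.1) R') ≫ CommRingCat.ofHom (algebraMap R' R'') from rfl,
      Spec.map_comp, Category.assoc, Category.assoc, hkk]
  -- the chart
  haveI : IsAffine _ := W.2
  haveI : IsAffine _ := W₁.2
  haveI : IsAffine _ := V.2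
  let O : (pullback g b).Opens := p₁ ⁻¹ᵁ V.1 ⊓ p₂ ⁻¹ᵁ W₁.1
  have hO : IsAffineOpen O :=
    .of_isIso (Scheme.Hom.isPullback_resLE H eW eV (rfl : O = _)).isoPullback.hom
  have e₁ : O ≤ p₁ ⁻¹ᵁ V.1 := inf_le_left
  have e₂ : O ≤ p₂ ⁻¹ᵁ W₁.1 := inf_le_right
  have hpo : IsPushout (g.appLE W.1 V.1 eV) (b.appLE W.1 W₁.1 eW) (p₁.appLE V.1 O e₁) (p₂.appLE W₁.1 O e₂) :=
    (isIso_pushoutSection_iff H eW eV rfl).mp
      (isIso_pushoutSection_of_isAffineOpen H eW eV rfl W.2 W₁.2 V.2)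
  letI := (g.appLE W.1 V.1 eV).hom.toAlgebra
  letI := (b.appLE W.1 W₁.1 eW).hom.toAlgebra
  letI := sectionsAlg p₁ e₁
  letI := (p₂.appLE W₁.1 O e₂).hom.toAlgebra
  letI : Algebra Γ(S, W.1) Γ(pullback g b, O) :=
    ((p₁.appLE V.1 O e₁).hom.comp (g.appLE W.1 V.1 eV).hom).toAlgebra
  haveI : IsScalarTower Γ(S, W.1) Γ(X, V.1) Γ(pullback g b, O) := .of_algebraMap_eq' rfl
  haveI : IsScalarTower Γ(S, W.1) Γ(Sst, W₁.1) Γ(pullback g b, O) := .of_algebraMap_eq fun a => congr($(hpo.w) a)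
  haveI : Algebra.IsPushout Γ(S, W.1) Γ(X, V.1) Γ(Sst, W₁.1) Γ(pullback g b, O) :=
    CommRingCat.isPushout_iff_isPushout.mp hpo
  haveI : Algebra.IsPushout Γ(S, W.1) Γ(Sst, W₁.1) Γ(X, V.1) Γ(pullback g b, O) := .symm inferInstance
  let Pm := (Scheme.Modules.pullback p₁).obj F
  haveI : Pm.IsQuasicoherent := isQCoh_pullback_obj p₁ F
  haveI : IsScalarTower Γ(S, W.1) Γ(X, V.1) Γ(F, V.1) := .of_algebraMap_smul fun _ _ => rfl
  letI : Module Γ(X, V.1) Γ(Pm, O) := Module.compHom _ (p₁.appLE V.1 O e₁).hom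
  haveI : IsScalarTower Γ(X, V.1) Γ(pullback g b, O) Γ(Pm, O) := .of_algebraMap_smul fun _ _ => rfl
  letI : Module Γ(Sst, W₁.1) Γ(Pm, O) := Module.compHom _ (p₂.appLE W₁.1 O e₂).hom
  haveI : IsScalarTower Γ(Sst, W₁.1) Γ(pullback g b, O) Γ(Pm, O) := .of_algebraMap_smul fun _ _ => rfl
  letI : Module Γ(S, W.1) Γ(Pm, O) := Module.compHom _ (b.appLE W.1 W₁.1 eW).hom
  haveI : IsScalarTower Γ(S, W.1) Γ(Sst, W₁.1) Γ(Pm, O) := .of_algebraMap_smul fun _ _ => rfl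
  haveI : IsScalarTower Γ(S, W.1) Γ(X, V.1) Γ(Pm, O) := .of_algebraMap_smul fun r m => by
    show (p₁.appLE V.1 O e₁).hom ((g.appLE W.1 V.1 eV).hom r) • m =
      (p₂.appLE W₁.1 O e₂).hom ((b.appLE W.1 W₁.1 eW).hom r) • m
    rw [show (p₁.appLE V.1 O e₁).hom ((g.appLE W.1 V.1 eV).hom r) =
      (p₂.appLE W₁.1 O e₂).hom ((b.appLE W.1 W₁.1 eW).hom r) from congr($(hpo.w) r)]
  let χ := (LocFree.pullSecₗ p₁ F e₁).restrictScalars Γ(S, W.1)
  have hχ : IsBaseChange Γ(Sst, W₁.1) χ :=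
    isBaseChange_of_pushout (R₁ := Γ(S, W.1)) (T := Γ(Sst, W₁.1)) (LocFree.pullSecₗ p₁ F e₁)
      (LocFree.isBaseChange_pullSecₗ p₁ F e₁ V.2 hO)
  letI := Flatmor4.sectionModule p₂ G e₂
  haveI : IsScalarTower Γ(Sst, W₁.1) Γ(pullback g b, O) Γ(G, O) := .of_algebraMap_smul fun _ _ => rfl
  haveI : Module.Flat Γ(Sst, W₁.1) (Γ(Pm, O) ⧸ tors Γ(Pm, O) t) := by
    haveI := hG.1
    haveI : Module.Flat Γ(Sst, W₁.1) Γ(G, O) :=
      (Flatmor4.flat_sections_iff p₂ G hO W₁.2 e₂).mpr fun y _ => hGflat y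
    have hexc : ((𝓘.comap g).comap p₁).ideal ⟨O, hO⟩ =
        Ideal.span {algebraMap Γ(Sst, W₁.1) Γ(pullback g b, O) t} := by
      rw [comap_comap_eq H, Divisors.ideal_comap_affine _ p₂ W₁ ⟨O, hO⟩ e₂, hIt, Ideal.map_span, Set.image_singleton]
      rfl
    let q := appₗ π O
    have hq : Function.Surjective q := app_surjective_of_epi π hO
    have hker : LinearMap.ker q = tors Γ(Pm, O) (algebraMap Γ(Sst, W₁.1) Γ(pullback g b, O) t) := by
      ext m
      exact (hG.2 ⟨O, hO⟩ m).trans (RefRank.StrictSheaf.killedByPowerNear_iff hexc m)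
    exact Module.Flat.of_linearEquiv ((Submodule.quotEquivOfEq _ _ (tors_algebraMap (A' := Γ(pullback g b, O)) t)).trans
      ((Submodule.Quotient.restrictScalarsEquiv Γ(Sst, W₁.1) _).trans
        (((Submodule.quotEquivOfEq _ _ hker.symm).trans (q.quotKerEquivOfSurjective hq)).restrictScalars
          Γ(Sst, W₁.1))))
  -- down to the test algebra
  letI : Algebra Γ(Sst, W₁.1) R'' := φ₁.hom.toAlgebra
  haveI : IsScalarTower Γ(S, W.1) Γ(Sst, W₁.1) R'' := IsScalarTower.of_algebraMap_eq fun r => by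
    rw [IsScalarTower.algebraMap_apply Γ(S, W.1) R' R'']
    exact (congr($(hcomm) r)).symm
  let M'' := TensorProduct R' R'' M'
  let ψ : M' →ₗ[R'] M'' := TensorProduct.mk R' R'' M' 1
  have hψ : IsBaseChange R'' ψ := TensorProduct.isBaseChange R' M' R''
  have hφ'' := hφ.comp hψ
  haveI : IsScalarTower Γ(Sst, W₁.1) R'' M'' := inferInstance
  have hs : ∀ (a : Γ(Sst, W₁.1)) (m : M''), algebraMap Γ(Sst, W₁.1) R'' a • m = a • m := fun a m =>
    algebraMap_smul R'' a m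
  haveI : IsScalarTower Γ(S, W.1) Γ(Sst, W₁.1) M'' := ⟨fun r a m => by
    rw [Algebra.smul_def, ← hs, map_mul, mul_smul, hs a m, ← IsScalarTower.algebraMap_apply,
      IsScalarTower.algebraMap_apply Γ(S, W.1) R' R'', algebraMap_smul, algebraMap_smul]⟩
  let χ'' := hχ.lift ((ψ.restrictScalars Γ(S, W.1)) ∘ₗ φ)
  have hχ'' : IsBaseChange R'' χ'' := by
    refine IsBaseChange.of_comp hχ ?_
    rw [IsBaseChange.lift_comp]
    exact hφ''
  have hτ'' : algebraMap R' R'' τ ∈ nonZeroDivisors R'' :=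
    Divisors.mem_nonZeroDivisors_of_flat (algebraMap R' R'') (RingHom.flat_algebraMap_iff.mpr inferInstance) hτ
  have hfl : Module.Flat R'' (M'' ⧸ tors M'' (algebraMap R' R'' τ)) := by
    refine flat_quot_of_flat_quot χ'' hχ'' (t := t) hτ'' (Ideal.le_radical ?_)
    have h1 : algebraMap R' R'' τ ∈ (L.map (algebraMap Γ(S, W.1) R'')) := by
      rw [IsScalarTower.algebraMap_eq Γ(S, W.1) R' R'', ← Ideal.map_map, hI]
      exact Ideal.mem_map_of_mem _ (Ideal.mem_span_singleton_self τ)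
    have h2 := Ideal.map_mono (f := algebraMap Γ(S, W.1) R'') (hL.le.trans Ideal.mul_le_left) h1
    rw [IsScalarTower.algebraMap_eq Γ(S, W.1) Γ(Sst, W₁.1) R'', ← Ideal.map_map,
      show (𝓘.ideal W).map (algebraMap Γ(S, W.1) Γ(Sst, W₁.1)) = Ideal.span {t} from
        (Divisors.ideal_comap_affine 𝓘 b W W₁ eW).symm.trans hIt, Ideal.map_span, Set.image_singleton] at h2
    exact h2
  haveI := hfl
  have hbc := isBaseChange_torsMap (τ := τ) hψ (tensor_tors_free_of_flat_algebra (τ := τ))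
  haveI : Module.Flat R'' (TensorProduct R' R'' (M' ⧸ tors M' τ)) := Module.Flat.of_linearEquiv hbc.equiv
  exact Module.Flat.trans R' R'' (TensorProduct R' R'' (M' ⧸ tors M' τ))

variable {X S : Scheme.{u}} (f : X ⟶ S) (F : X.Modules) [F.IsQuasicoherent]

set_option maxHeartbeats 1000000 in
/-- **Étale local flattening glues.** -/
theorem exists_blowUp_of_etale_local [CompactSpace S] [QuasiSeparatedSpace S] (U : S.Opens)
    (hU : IsCompact (U : Set S)) {k : ℕ} (Si Xi : Fin k → Scheme.{u}) (e : ∀ i, Si i ⟶ S) (j : ∀ i, Xi i ⟶ X)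
    (fi : ∀ i, Xi i ⟶ Si i) [∀ i, Etale (e i)] [∀ i, QuasiCompact (e i)] [∀ i, Etale (j i)]
    (hcovX : ∀ x : X, ∃ i y, (j i).base y = x) (hcomm : ∀ i, j i ≫ f = fi i ≫ e i)
    (𝓘 : ∀ i, (Si i).IdealSheafData) (Sst : Fin k → Scheme.{u}) (b : ∀ i, Sst i ⟶ Si i)
    (hb : ∀ i, BlowUp.IsBlowUp (b i) (𝓘 i) ∧ BlowUp.IsAdmissibleFor ((e i) ⁻¹ᵁ U) (𝓘 i))
    (hflat : ∀ i (X' : Scheme.{u}) (p₁ : X' ⟶ Xi i) (p₂ : X' ⟶ Sst i), IsPullback p₁ p₂ (fi i) (b i) →
      ∀ (G : X'.Modules) (π : (Scheme.Modules.pullback p₁).obj ((Scheme.Modules.pullback (j i)).obj F) ⟶ G),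
        BlowUp.IsStrictTransform p₁ ((𝓘 i).comap (fi i)) ((Scheme.Modules.pullback (j i)).obj F) G π →
          FlatMod.IsFlatOver p₂ G) :
    ∃ (𝓙 : S.IdealSheafData) (S' : Scheme.{u}) (b' : S' ⟶ S), BlowUp.IsBlowUp b' 𝓙 ∧ BlowUp.IsAdmissibleFor U 𝓙 ∧
      ∀ (X' : Scheme.{u}) (p₁ : X' ⟶ X) (p₂ : X' ⟶ S'), IsPullback p₁ p₂ f b' →
      ∀ (G : X'.Modules) (π : (Scheme.Modules.pullback p₁).obj F ⟶ G),
        BlowUp.IsStrictTransform p₁ (𝓙.comap f) F G π → FlatMod.IsFlatOver p₂ G := by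
  classical
  choose Fs hFs hcovU using ContentBlowUp.exists_basic_cover (S := S) hU
  have hW : ∀ W : S.affineOpens, ∃ L : Ideal Γ(S, W.1), L.FG ∧
      L.radical = (Ideal.span (Fs W : Set Γ(S, W.1))).radical ∧
      ∀ (V : X.affineOpens) (eV : V.1 ≤ f ⁻¹ᵁ W.1),
        letI := Flatmor4.sectionModule f F eV; Flattens L Γ(F, V.1) := by
    intro W
    let J := Ideal.span (Fs W : Set Γ(S, W.1))
    have hcover : ∀ i, ∃ s : Finset (Si i).affineOpens, (∀ D ∈ s, D.1 ≤ e i ⁻¹ᵁ W.1) ∧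
        ∀ y, y ∈ e i ⁻¹ᵁ W.1 → ∃ D ∈ s, y ∈ D.1 := by
      intro i
      have hc : IsCompact ((e i ⁻¹ᵁ W.1 : (Si i).Opens) : Set (Si i)) := (e i).isCompact_preimage W.2.isCompact
      obtain ⟨s, hs⟩ := hc.elim_finite_subcover
        (fun D : {D : (Si i).affineOpens // D.1 ≤ e i ⁻¹ᵁ W.1} => (D.1.1 : Set (Si i))) (fun D => D.1.1.2)
        (fun y hy => by
          obtain ⟨D, hyD, hD⟩ := Divisors.exists_affine_le y _ hy
          exact Set.mem_iUnion.mpr ⟨⟨D, hD⟩, hyD⟩)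
      refine ⟨s.image Subtype.val, fun D hD => ?_, fun y hy => ?_⟩
      · obtain ⟨D, -, rfl⟩ := Finset.mem_image.mp hD
        exact D.2
      · obtain ⟨D, hD, hyD⟩ := Set.mem_iUnion₂.mp (hs hy)
        exact ⟨D.1, Finset.mem_image.mpr ⟨D, hD, rfl⟩, hyD⟩
    choose s hsle hscov using hcover
    let ι := Σ i : Fin k, ↥(s i)
    let Ri : ι → Type u := fun q => Γ(Si q.1, q.2.1.1)
    letI : ∀ q, Algebra Γ(S, W.1) (Ri q) := fun q =>
      ((e q.1).appLE W.1 q.2.1.1 (hsle _ _ q.2.2)).hom.toAlgebra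
    haveI : ∀ q, Algebra.Etale Γ(S, W.1) (Ri q) := fun q =>
      RingHom.etale_algebraMap.mp (HasRingHomProperty.appLE @Etale (e q.1) inferInstance W q.2.1 (hsle _ _ q.2.2))
    let L : ∀ q, Ideal (Ri q) := fun q => (𝓘 q.1).ideal q.2.1 * J.map (algebraMap Γ(S, W.1) (Ri q))
    have hJfg : J.FG := Submodule.fg_span (Finset.finite_toSet _)
    have hLrad : ∀ q, (L q).radical = (J.map (algebraMap Γ(S, W.1) (Ri q))).radical := fun q => by
      refine le_antisymm (Ideal.radical_mono Ideal.mul_le_right) ?_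
      rw [Ideal.radical_mul, le_inf_iff, Ideal.radical_le_radical_iff]
      refine ⟨?_, le_rfl⟩
      rw [Ideal.map_span, Ideal.span_le]
      rintro _ ⟨g, hg, rfl⟩
      refine mem_radical_of_basicOpen fun z hz hzs => Set.disjoint_left.mp (hb q.1).2.2 hzs ?_
      show e q.1 z ∈ U
      refine hFs W g hg ?_
      rw [RingHom.algebraMap_toAlgebra, show ((e q.1).appLE W.1 q.2.1.1 (hsle _ _ q.2.2)).hom g =
        (Si q.1).presheaf.map (homOfLE (hsle _ _ q.2.2)).op ((e q.1).app W.1 g) from rfl,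
        Scheme.basicOpen_res, ← Scheme.preimage_basicOpen] at hz
      exact hz.2
    obtain ⟨L₀, hL₀fg, hL₀rad, hL₀⟩ := exists_pullbackPrincipal_fg J (Fs W) rfl Ri L
      (fun q => ((hb q.1).2.1 q.2.1).mul (hJfg.map _)) hLrad
    refine ⟨L₀, hL₀fg, hL₀rad, fun V eV => ?_⟩
    letI := (f.appLE W.1 V.1 eV).hom.toAlgebra
    letI := Flatmor4.sectionModule f F eV
    haveI : IsScalarTower Γ(S, W.1) Γ(X, V.1) Γ(F, V.1) := .of_algebraMap_smul fun _ _ => rfl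
    let κ := Σ q : ι, {V' : (Xi q.1).affineOpens // V'.1 ≤ j q.1 ⁻¹ᵁ V.1 ∧ V'.1 ≤ fi q.1 ⁻¹ᵁ q.2.1.1}
    let Ai : κ → Type u := fun c => Γ(Xi c.1.1, c.2.1.1)
    letI : ∀ c, Algebra Γ(X, V.1) (Ai c) := fun c => ((j c.1.1).appLE V.1 c.2.1.1 c.2.2.1).hom.toAlgebra
    haveI : ∀ c, Module.Flat Γ(X, V.1) (Ai c) := fun c =>
      RingHom.flat_algebraMap_iff.mp ((j c.1.1).flat_appLE V.2 c.2.1.2 c.2.2.1)
    letI : ∀ c, Algebra Γ(S, W.1) (Ai c) := fun c =>
      ((algebraMap Γ(X, V.1) (Ai c)).comp (algebraMap Γ(S, W.1) Γ(X, V.1))).toAlgebra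
    haveI : ∀ c, IsScalarTower Γ(S, W.1) Γ(X, V.1) (Ai c) := fun c => .of_algebraMap_eq fun _ => rfl
    letI : ∀ c : κ, Algebra (Ri c.1) (Ai c) := fun c =>
      ((fi c.1.1).appLE c.1.2.1.1 c.2.1.1 c.2.2.2).hom.toAlgebra
    haveI : ∀ c : κ, IsScalarTower Γ(S, W.1) (Ri c.1) (Ai c) := fun c => .of_algebraMap_eq fun r => by
      have h1 : f.appLE W.1 V.1 eV ≫ (j c.1.1).appLE V.1 c.2.1.1 c.2.2.1 =
          (e c.1.1).appLE W.1 c.1.2.1.1 (hsle _ _ c.1.2.2) ≫ (fi c.1.1).appLE c.1.2.1.1 c.2.1.1 c.2.2.2 := by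
        have key : ∀ (q q' : Xi c.1.1 ⟶ S), q = q' → ∀ e₁ e₂, q.appLE W.1 c.2.1.1 e₁ = q'.appLE W.1 c.2.1.1 e₂ := by
          rintro _ _ rfl _ _; rfl
        rw [Scheme.Hom.appLE_comp_appLE, Scheme.Hom.appLE_comp_appLE]
        exact key _ _ (hcomm c.1.1) _ _
      exact congr($(h1) r)
    refine flattens_glue (A := Γ(X, V.1)) (M := Γ(F, V.1)) hL₀rad Ri L hLrad hL₀ Sigma.fst Ai (fun c => ?_) ?_
    · let F' := (Scheme.Modules.pullback (j c.1.1)).obj F
      haveI : F'.IsQuasicoherent := isQCoh_pullback_obj (j c.1.1) F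
      letI : Module (Ri c.1) Γ(F', c.2.1.1) := Flatmor4.sectionModule (fi c.1.1) F' c.2.2.2
      have h1 : Flattens (L c.1) Γ(F', c.2.1.1) :=
        flattens_of_blowUp_flat (fi c.1.1) F' (hb c.1.1).2.1 (hb c.1.1).1 (hflat c.1.1) c.2.2.2
          (W := c.1.2.1) (V := c.2.1) (J := J.map (algebraMap Γ(S, W.1) (Ri c.1))) rfl
      letI : Module Γ(X, V.1) Γ(F', c.2.1.1) :=
        Module.compHom _ ((j c.1.1).appLE V.1 c.2.1.1 c.2.2.1).hom
      haveI : IsScalarTower Γ(X, V.1) Γ(Xi c.1.1, c.2.1.1) Γ(F', c.2.1.1) := .of_algebraMap_smul fun _ _ => rfl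
      haveI : IsScalarTower (Ri c.1) Γ(Xi c.1.1, c.2.1.1) Γ(F', c.2.1.1) := .of_algebraMap_smul fun _ _ => rfl
      haveI : IsScalarTower (Ri c.1) (Ai c) (TensorProduct Γ(X, V.1) (Ai c) Γ(F, V.1)) := inferInstance
      let eq₀ : TensorProduct Γ(X, V.1) (Ai c) Γ(F, V.1) ≃ₗ[Ai c] Γ(F', c.2.1.1) :=
        (LocFree.isBaseChange_pullSecₗ (j c.1.1) F c.2.2.1 V.2 c.2.1.2).equiv
      exact h1.congr (eq₀.restrictScalars (Ri c.1)).symm
    · intro Q hQ _
      let x := V.2.fromSpec ⟨Q, hQ⟩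
      have hxV : x ∈ V.1 := by
        have : x ∈ Set.range V.2.fromSpec := ⟨_, rfl⟩
        rwa [V.2.range_fromSpec] at this
      obtain ⟨i, y, hy⟩ := hcovX x
      have hyV : y ∈ j i ⁻¹ᵁ V.1 := by
        show (j i).base y ∈ V.1
        rw [hy]; exact hxV
      have hyW : fi i y ∈ e i ⁻¹ᵁ W.1 := by
        show e i (fi i y) ∈ W.1
        rw [← Scheme.Hom.comp_apply, ← hcomm, Scheme.Hom.comp_apply]
        exact eV hyV
      obtain ⟨D, hD, hyD⟩ := hscov i _ hyW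
      obtain ⟨V', hyV', hV'⟩ := Divisors.exists_affine_le y (j i ⁻¹ᵁ V.1 ⊓ fi i ⁻¹ᵁ D.1) ⟨hyV, hyD⟩
      refine ⟨⟨⟨i, D, hD⟩, V', hV'.trans inf_le_left, hV'.trans inf_le_right⟩,
        (V'.2.primeIdealOf ⟨y, hyV'⟩).asIdeal, (V'.2.primeIdealOf ⟨y, hyV'⟩).2, ?_⟩
      refine (Groth.PropsBasic.Loci.primeIdealOf_comap (j i) V.2 V'.2 _ hyV').trans ?_
      exact congrArg PrimeSpectrum.asIdeal
        (V.2.fromSpec.isOpenEmbedding.injective ((V.2.fromSpec_primeIdealOf ⟨(j i).base y, hyV⟩).trans hy))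
  choose L hLfg hLrad hLfl using hW
  obtain ⟨sS, hsS⟩ := isCompact_univ.elim_finite_subcover (fun W : S.affineOpens => (W.1 : Set S))
    (fun W => W.1.isOpen) (fun s _ => by
      obtain ⟨W, hsW, -⟩ := Divisors.exists_affine_le s ⊤ trivial
      exact Set.mem_iUnion.mpr ⟨W, hsW⟩)
  obtain ⟨𝓙, S', b', hb', hadm, -, hfl⟩ := exists_blowUp_flat f F hU (fun W : ↥sS => W.1)
    (fun s => by
      obtain ⟨V, hV, hsV⟩ := Set.mem_iUnion₂.mp (hsS (Set.mem_univ s))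
      exact ⟨⟨V, hV⟩, hsV⟩)
    (fun W => L W.1) (fun W => hLfg W.1)
    (fun W y hy => by
      rw [exists_basicOpen_iff W.1.2 (hLrad W.1) hy, exists_basicOpen_span_iff W.1.2 _ hy]
      exact ⟨hcovU W.1 y hy, fun ⟨g, hg, hyg⟩ => hFs W.1 g hg hyg⟩)
    (fun x => by
      obtain ⟨W, hW, hxW⟩ := Set.mem_iUnion₂.mp (hsS (Set.mem_univ (f x)))
      obtain ⟨V, hxV, hV⟩ := Divisors.exists_affine_le x (f ⁻¹ᵁ W.1) hxW
      exact ⟨⟨W, hW⟩, V, hV, hxV, hLfl W V hV⟩)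
  exact ⟨𝓙, S', b', hb', hadm, hfl⟩

end Groth.RaynaudGruson.Flattening
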