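import Groth.Agent.RaynaudGruson.Flattening.Subscheme
import Groth.Agent.S0450
import Groth.Prelude.Def_Mor2

/-!
An admissible blow-up making a proper morphism, finite locally free over an open, finite locally free.
-/

set_option autoImplicit false
set_option linter.style.haveILetI false
universe u

open CategoryTheory CategoryTheory.Limits AlgebraicGeometry TopologicalSpace Opposite

namespace Groth.RaynaudGruson.Flattening

theorem exists_blowUp_finLocFree (core : PrincipalFlattening.{u}) {X S : Scheme.{u}} [CompactSpace S]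
    [QuasiSeparatedSpace S] (φ : X ⟶ S) [IsProper φ] (U : S.Opens) (hU : IsCompact (U : Set S))
    (hfl : Mor2.IsFinLocFree (φ ∣_ U)) :
    ∃ (𝓘 : S.IdealSheafData) (S' : Scheme.{u}) (b : S' ⟶ S), BlowUp.IsBlowUp b 𝓘 ∧ BlowUp.IsAdmissibleFor U 𝓘 ∧
      ∀ (X' : Scheme.{u}) (p₁ : X' ⟶ X) (p₂ : X' ⟶ S'), IsPullback p₁ p₂ φ b →
      ∀ (𝒥 : X'.IdealSheafData),
        (∀ (W : X'.affineOpens) (a : Γ(X', W.1)), a ∈ 𝒥.ideal W ↔
          BlowUp.KilledByPowerNear ((𝓘.comap φ).comap p₁) (Coh.structureModule X') W a) →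
        Mor2.IsFinLocFree (𝒥.subschemeι ≫ p₂) := by
  obtain ⟨hfin, hflat, hlfp⟩ := hfl
  obtain ⟨𝓘, S', b, hb, hadm, hsupp, h⟩ := exists_blowUp_subscheme φ core U hU
  refine ⟨𝓘, S', b, hb, hadm, fun X' p₁ p₂ H 𝒥 h𝒥 => ?_⟩
  obtain ⟨hflat', hlfp'⟩ := h X' p₁ p₂ H 𝒥 h𝒥
  haveI : IsProper p₂ := MorphismProperty.of_isPullback H inferInstance
  -- finite over the inverse image of `U`
  let U' : S'.Opens := b ⁻¹ᵁ U
  haveI : IsFinite (p₂ ∣_ U') := by
    have h2 := (isPullback_morphismRestrict p₂ U').flip.paste_horiz H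
    rw [← morphismRestrict_ι b U] at h2
    have h3 := (isPullback_morphismRestrict φ U).flip
    let l := h3.lift ((p₂ ⁻¹ᵁ U').ι ≫ p₁) ((p₂ ∣_ U') ≫ (b ∣_ U)) (by
      rw [Category.assoc (p₂ ∣_ U')]; exact h2.w)
    have hl : IsPullback l (p₂ ∣_ U') (φ ∣_ U) (b ∣_ U) := by
      refine IsPullback.of_right ?_ (h3.lift_snd _ _ _) h3
      rw [h3.lift_fst]
      exact h2
    exact MorphismProperty.of_isPullback hl hfin
  haveI : IsFinite ((𝒥.subschemeι ≫ p₂) ∣_ U') := by
    rw [morphismRestrict_comp]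
    have hci : IsClosedImmersion (𝒥.subschemeι ∣_ p₂ ⁻¹ᵁ U') := IsZariskiLocalAtTarget.restrict (P := @IsClosedImmersion) inferInstance _
    exact MorphismProperty.comp_mem @IsFinite _ _ ((IsClosedImmersion.iff_isFinite_and_mono _).mp hci).1 ‹_›
  -- which is dense
  have hdense : Dense (U' : Set S') := by
    have hcompl : Divisors.complOpens (𝓘.comap b) = U' := by
      ext s
      show s ∈ ((𝓘.comap b).support : Set S')ᶜ ↔ b s ∈ (U : Set S)
      rw [Scheme.IdealSheafData.support_comap]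
      show ¬ (b s ∈ (𝓘.support : Set S)) ↔ _
      rw [hsupp]
      exact not_not
    rw [← hcompl]
    haveI := Divisors.compl_dominant hb.1
    haveI := Divisors.isAffineHom_compl (Divisors.isLocPrincipal_of_isEffCartier hb.1)
    have hd := (Divisors.complOpens (𝓘.comap b)).ι.denseRange
    rwa [DenseRange, Scheme.Opens.range_ι] at hd
  exact ⟨Groth.Agent.S0450.result _ U' hdense, hflat', hlfp'⟩

end Groth.RaynaudGruson.Flattening
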