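import Groth.Agent.RaynaudGruson.Flattening.Chart
import Groth.Agent.RaynaudGruson.ContentBlowUpScheme

/-!
An admissible blow-up built from flattening ideals on an affine cover of the base.
-/

set_option autoImplicit false
set_option linter.style.haveILetI false
universe u

open CategoryTheory CategoryTheory.Limits AlgebraicGeometry TopologicalSpace Opposite Groth.QCohMod

namespace Groth.RaynaudGruson.Flattening

variable {S : Scheme.{u}}

theorem mem_radical_of_basicOpen {I : S.IdealSheafData} {W : S.affineOpens} {a : Γ(S, W.1)}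
    (h : ∀ z ∈ S.basicOpen a, z ∉ I.support) : a ∈ (I.ideal W).radical := by
  have htop := RefRank.StrictSheaf.ideal_eq_top_of_notMem_support I (S.affineBasicOpen a) h
  rw [← I.map_ideal_basicOpen W a] at htop
  have htop : (1 : Γ(S, S.basicOpen a)) ∈ (I.ideal W).map (algebraMap Γ(S, W.1) Γ(S, S.basicOpen a)) :=
    (Ideal.eq_top_iff_one _).mp htop
  haveI := W.2.isLocalization_basicOpen a
  obtain ⟨⟨y, s⟩, hys⟩ := (IsLocalization.mem_map_algebraMap_iff (Submonoid.powers a) Γ(S, S.basicOpen a)).mp htop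
  rw [one_mul] at hys
  obtain ⟨⟨_, k, rfl⟩, hk⟩ := (IsLocalization.eq_iff_exists (Submonoid.powers a) Γ(S, S.basicOpen a)).mp hys
  obtain ⟨l, hl⟩ := s.2
  refine ⟨k + l, ?_⟩
  rw [pow_add, show a ^ l = (s : Γ(S, W.1)) from hl, hk]
  exact Ideal.mul_mem_left _ _ y.2

variable [CompactSpace S] [QuasiSeparatedSpace S]

/-- Ideals on an affine cover, each with zero set the complement of `U`, define one admissible blow-up on
which each of them becomes locally principal with the radical of the exceptional ideal. -/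
theorem exists_blowUp_ideals {U : S.Opens} (hU : IsCompact (U : Set S)) {κ : Type u} [Finite κ]
    (W : κ → S.affineOpens) (hW : ∀ s : S, ∃ k, s ∈ (W k).1) (L : ∀ k, Ideal Γ(S, (W k).1))
    (hfg : ∀ k, (L k).FG) (hLU : ∀ k, ∀ x ∈ (W k).1, x ∈ U ↔ ∃ a ∈ L k, x ∈ S.basicOpen a) :
    ∃ (𝓘 : S.IdealSheafData) (S' : Scheme.{u}) (b : S' ⟶ S), BlowUp.IsBlowUp b 𝓘 ∧
      BlowUp.IsAdmissibleFor U 𝓘 ∧ (𝓘.support : Set S) = (U : Set S)ᶜ ∧
      ∀ (k : κ) (W' : S'.affineOpens) (e : W'.1 ≤ b ⁻¹ᵁ (W k).1) (τ : Γ(S', W'.1)),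
        τ ∈ nonZeroDivisors Γ(S', W'.1) → (𝓘.comap b).ideal W' = Ideal.span {τ} →
        LocPrincipal ((L k).map (b.appLE (W k).1 W'.1 e).hom) ∧
          ((L k).map (b.appLE (W k).1 W'.1 e).hom).radical = (Ideal.span {τ}).radical := by
  classical
  cases nonempty_fintype κ
  choose K hK hKW using fun k => ContentBlowUp.exists_admissible hU (W k) (L k) (hfg k)
    fun x hx hxU => (hLU k x hx).mp hxU
  let 𝓘 := ∏ k, K k
  have hadm : BlowUp.IsAdmissibleFor U 𝓘 := RefRank.isAdmissibleFor_prod _ K fun k _ => hK k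
  have hdecomp : ∀ k, 𝓘.ideal (W k) = L k * (∏ j ∈ Finset.univ.erase k, K j).ideal (W k) := fun k => by
    rw [show 𝓘 = K k * ∏ j ∈ Finset.univ.erase k, K j from
      (Finset.mul_prod_erase _ _ (Finset.mem_univ k)).symm, Scheme.IdealSheafData.ideal_mul, Pi.mul_apply, hKW]
  have hle : ∀ k, 𝓘.ideal (W k) ≤ L k := fun k => (hdecomp k).le.trans Ideal.mul_le_left
  have hsupp : (𝓘.support : Set S) = (U : Set S)ᶜ := by
    refine Set.Subset.antisymm (fun x hx hxU => Set.disjoint_left.mp hadm.2 hx hxU) fun x hxU => ?_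
    obtain ⟨k, hk⟩ := hW x
    show x ∈ 𝓘.support
    rw [Scheme.IdealSheafData.mem_support_iff_of_mem hk, Scheme.mem_zeroLocus_iff]
    exact fun a ha hxa => hxU ((hLU k x hk).mpr ⟨a, hle k ha, hxa⟩)
  have hrad : ∀ k, (𝓘.ideal (W k)).radical = (L k).radical := fun k =>
    le_antisymm (Ideal.radical_mono (hle k)) <| by
      rw [Ideal.radical_le_radical_iff]
      intro a ha
      refine mem_radical_of_basicOpen fun z hz hzs => ?_
      exact Set.disjoint_left.mp hadm.2 hzs ((hLU k z (S.basicOpen_le a hz)).mpr ⟨a, ha, hz⟩)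
  obtain ⟨S', b, hb⟩ := BlowUpBasics.exists_isBlowUp S 𝓘
  refine ⟨𝓘, S', b, hb, hadm, hsupp, fun k W' e τ hτ hI => ?_⟩
  rw [Divisors.ideal_comap_affine 𝓘 b (W k) W' e] at hI
  letI := (b.appLE (W k).1 W'.1 e).hom.toAlgebra
  refine ⟨?_, ?_⟩
  · refine locPrincipal_of_mul
      (J := ((∏ j ∈ Finset.univ.erase k, K j).ideal (W k)).map (b.appLE (W k).1 W'.1 e).hom) ?_
    rw [← Ideal.map_mul, ← hdecomp, hI]
    exact locPrincipal_span hτ
  · rw [← hI]
    exact radical_map_congr (R := Γ(S, (W k).1)) (R' := Γ(S', W'.1)) (hrad k).symm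

variable {X : Scheme.{u}} (f : X ⟶ S) (F : X.Modules) [F.IsQuasicoherent]

/-- **Flattening ideals on affine pieces give a flattening admissible blow-up.** -/
theorem exists_blowUp_flat {U : S.Opens} (hU : IsCompact (U : Set S)) {κ : Type u} [Finite κ]
    (W : κ → S.affineOpens) (hW : ∀ s : S, ∃ k, s ∈ (W k).1) (L : ∀ k, Ideal Γ(S, (W k).1))
    (hfg : ∀ k, (L k).FG) (hLU : ∀ k, ∀ x ∈ (W k).1, x ∈ U ↔ ∃ a ∈ L k, x ∈ S.basicOpen a)
    (hfl : ∀ x : X, ∃ (k : κ) (V : X.affineOpens) (eV : V.1 ≤ f ⁻¹ᵁ (W k).1), x ∈ V.1 ∧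
      letI := Flatmor4.sectionModule f F eV; Flattens (L k) Γ(F, V.1)) :
    ∃ (𝓘 : S.IdealSheafData) (S' : Scheme.{u}) (b : S' ⟶ S), BlowUp.IsBlowUp b 𝓘 ∧
      BlowUp.IsAdmissibleFor U 𝓘 ∧ (𝓘.support : Set S) = (U : Set S)ᶜ ∧
      ∀ (X' : Scheme.{u}) (p₁ : X' ⟶ X) (p₂ : X' ⟶ S'), IsPullback p₁ p₂ f b →
      ∀ (G : X'.Modules) (π : (Scheme.Modules.pullback p₁).obj F ⟶ G),
        BlowUp.IsStrictTransform p₁ (𝓘.comap f) F G π → FlatMod.IsFlatOver p₂ G := by
  obtain ⟨𝓘, S', b, hb, hadm, hsupp, hL⟩ := exists_blowUp_ideals hU W hW L hfg hLU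
  refine ⟨𝓘, S', b, hb, hadm, hsupp, fun X' p₁ p₂ H G π hG x' => ?_⟩
  haveI := isQCoh_strictTransform H hb.1 hG
  obtain ⟨k, V, eV, hxV, hfl⟩ := hfl (p₁ x')
  have hmem : p₂ x' ∈ b ⁻¹ᵁ (W k).1 := by
    show b (p₂ x') ∈ (W k).1
    rw [← Scheme.Hom.comp_apply, ← H.w, Scheme.Hom.comp_apply]
    exact eV hxV
  obtain ⟨W', hxW', eW, τ, hτ, hI⟩ := Divisors.exists_generator hb.1 (p₂ x') _ hmem
  obtain ⟨hloc, hr⟩ := hL k W' eW τ hτ.mem_nonZeroDivisors hI
  exact isFlatOverAt_of_flattens H F 𝓘 hG eV eW hfl hloc hI hr hxV hxW'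

end Groth.RaynaudGruson.Flattening
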