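import Groth.Agent.RaynaudGruson.Flattening.Scheme
import Groth.Agent.RaynaudGruson.Flattening.Affine
import Groth.Agent.RaynaudGruson.Flattening.Sections
import Groth.Agent.S1239
import Groth.Agent.Pi1FPDesc.Basic

/-!
Flattening by an admissible blow-up, with finite presentation of the strict transform.
-/

set_option autoImplicit false
set_option linter.style.haveILetI false
universe u

open CategoryTheory CategoryTheory.Limits AlgebraicGeometry TopologicalSpace Opposite Groth.QCohMod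

namespace Groth.RaynaudGruson.Flattening

variable {X S : Scheme.{u}} (f : X ⟶ S) [LocallyOfFinitePresentation f] (F : X.Modules) [F.IsQuasicoherent]

/-- The affine piece of the flattening problem. -/
theorem exists_affine_ideal (core : PrincipalFlattening.{u}) (hft : CohB1.IsFT F) {U : S.Opens}
    (hfpU : CohB1.IsFP ((Scheme.Modules.pullback (f ⁻¹ᵁ U).ι).obj F))
    (hflU : ∀ x : X, f.base x ∈ U → FlatMod.IsFlatOverAt f F x)
    {W : S.affineOpens} (Fs : Finset Γ(S, W.1)) (hFs : ∀ g ∈ Fs, S.basicOpen g ≤ U)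
    {V : X.affineOpens} (eV : V.1 ≤ f ⁻¹ᵁ W.1) :
    letI := Flatmor4.sectionModule f F eV
    Flattenable (Ideal.span (Fs : Set Γ(S, W.1))) Γ(F, V.1) := by
  letI := (f.appLE W.1 V.1 eV).hom.toAlgebra
  letI := Flatmor4.sectionModule f F eV
  haveI : IsScalarTower Γ(S, W.1) Γ(X, V.1) Γ(F, V.1) := .of_algebraMap_smul fun _ _ => rfl
  haveI : Algebra.FinitePresentation Γ(S, W.1) Γ(X, V.1) := f.finitePresentation_appLE W.2 V.2 eV
  haveI := finite_sections F hft V.2
  have hD : ∀ g ∈ Fs, X.basicOpen (algebraMap Γ(S, W.1) Γ(X, V.1) g) ≤ f ⁻¹ᵁ U := fun g hg => by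
    intro x hx
    refine hFs g hg ?_
    show f x ∈ S.basicOpen g
    have : x ∈ f ⁻¹ᵁ S.basicOpen g := by
      rw [show algebraMap Γ(S, W.1) Γ(X, V.1) g = X.presheaf.map (homOfLE eV).op (f.app W.1 g) from rfl,
        Scheme.basicOpen_res, ← Scheme.preimage_basicOpen] at hx
      exact hx.2
    exact this
  refine flattenable_of_flat_fp core (A := Γ(X, V.1)) Γ(F, V.1) _ Fs rfl (fun g hg => ?_) fun g hg => ?_
  · exact flat_away_sections F f V.2 W.2 eV _ fun x hx => hflU x (hD g hg hx)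
  · exact fp_away_sections F V.2 _ (fp_sections_of_fp_pullback F _ hfpU (V.2.basicOpen _) (hD g hg))

variable {F} in
/-- Finite presentation of a flat strict transform. -/
theorem isFP_of_flat {X' S' : Scheme.{u}} {b : S' ⟶ S} {p₁ : X' ⟶ X} {p₂ : X' ⟶ S'} (H : IsPullback p₁ p₂ f b)
    (hft : CohB1.IsFT F) {U : S.Opens}
    (hfpU : CohB1.IsFP ((Scheme.Modules.pullback (f ⁻¹ᵁ U).ι).obj F))
    {𝓘 : S.IdealSheafData} (hsupp : (𝓘.support : Set S) = (U : Set S)ᶜ)
    (hE : BlowUp.IsEffCartierIdeal (𝓘.comap b)) {G : X'.Modules} [G.IsQuasicoherent]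
    {π : (Scheme.Modules.pullback p₁).obj F ⟶ G} (hG : BlowUp.IsStrictTransform p₁ (𝓘.comap f) F G π)
    (hflat : FlatMod.IsFlatOver p₂ G) : CohB1.IsFP G := by
  haveI : LocallyOfFinitePresentation p₂ := MorphismProperty.of_isPullback H inferInstance
  let P := (Scheme.Modules.pullback p₁).obj F
  haveI : P.IsQuasicoherent := isQCoh_pullback_obj p₁ F
  haveI := hG.1
  have hftG : CohB1.IsFT G := isFT_of_epi π (isFT_pullback p₁ F hft)
  let U₁ : X'.Opens := p₁ ⁻¹ᵁ (f ⁻¹ᵁ U)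
  have hPfp : CohB1.IsFP ((Scheme.Modules.pullback U₁.ι).obj P) :=
    Pi1FPDesc.isFP_of_iso ((Scheme.Modules.pullbackComp (p₁ ∣_ (f ⁻¹ᵁ U)) (f ⁻¹ᵁ U).ι).app F ≪≫
      (Scheme.Modules.pullbackCongr (morphismRestrict_ι p₁ (f ⁻¹ᵁ U))).app F ≪≫
      ((Scheme.Modules.pullbackComp U₁.ι p₁).app F).symm)
      (isFP_pullback (p₁ ∣_ (f ⁻¹ᵁ U)) _ hfpU)
  refine Groth.LocFree.isFP_of_affine_cover G fun x => ?_
  obtain ⟨W', hxW', -, τ, hτ, hI⟩ := Divisors.exists_generator hE (p₂ x) ⊤ trivial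
  obtain ⟨O, hxO, hO⟩ := Divisors.exists_affine_le x (p₂ ⁻¹ᵁ W'.1) hxW'
  refine ⟨O.1, O.2, hxO, ?_⟩
  letI := (p₂.appLE W'.1 O.1 hO).hom.toAlgebra
  letI := Flatmor4.sectionModule p₂ G hO
  haveI : IsScalarTower Γ(S', W'.1) Γ(X', O.1) Γ(G, O.1) := .of_algebraMap_smul fun _ _ => rfl
  haveI : Algebra.FinitePresentation Γ(S', W'.1) Γ(X', O.1) := p₂.finitePresentation_appLE W'.2 O.2 hO
  haveI := finite_sections G hftG O.2
  haveI : Module.Flat Γ(S', W'.1) Γ(G, O.1) :=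
    (Flatmor4.flat_sections_iff p₂ G O.2 W'.2 hO).mpr fun y _ => hflat y
  refine Groth.Agent.S1239.result (A := Γ(S', W'.1)) Γ(G, O.1) (fun _ : Fin 1 => τ) ?_ fun _ => ?_
  · intro a c hac
    exact IsLocalization.injective (M := Submonoid.powers τ) (Localization.Away τ)
      (Submonoid.powers_le.2 hτ.mem_nonZeroDivisors) (congrFun hac 0)
  refine fp_away_sections G O.2 _ ?_
  set t := algebraMap Γ(S', W'.1) Γ(X', O.1) τ with htdef
  have hexc : ((𝓘.comap f).comap p₁).ideal O = Ideal.span {t} := by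
    rw [comap_comap_eq H, Divisors.ideal_comap_affine _ p₂ W' O hO, hI, Ideal.map_span, Set.image_singleton]
    rfl
  let D : X'.affineOpens := X'.affineBasicOpen t
  let tD : Γ(X', D.1) := resFun X' (X'.basicOpen_le t) t
  have htD : IsUnit tD := RingedSpace.isUnit_res_basicOpen _ t
  have hexcD : ((𝓘.comap f).comap p₁).ideal D = Ideal.span {tD} := by
    rw [← ((𝓘.comap f).comap p₁).map_ideal_basicOpen, hexc, Ideal.map_span, Set.image_singleton]
    rfl
  have hbij : Function.Bijective (appₗ π D.1) := by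
    refine ⟨(injective_iff_map_eq_zero _).2 fun m hm => ?_, app_surjective_of_epi π D.2⟩
    obtain ⟨n, hn⟩ := (RefRank.StrictSheaf.killedByPowerNear_iff hexcD m).1 ((hG.2 D m).1 hm)
    exact (htD.pow n).smul_eq_zero.1 hn
  have hDU : D.1 ≤ U₁ := by
    intro y hy
    have hns : y ∉ ((𝓘.comap f).comap p₁).support :=
      ContentBlowUp.notMem_support (hexc.ge (Ideal.mem_span_singleton_self t)) hy
    rw [Scheme.IdealSheafData.support_comap, Scheme.IdealSheafData.support_comap] at hns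
    by_contra hcon
    refine hns ?_
    show f (p₁ y) ∈ (𝓘.support : Set S)
    rw [hsupp]
    exact hcon
  haveI := fp_sections_of_fp_pullback P U₁ hPfp D.2 hDU
  show Module.FinitePresentation Γ(X', D.1) Γ(G, D.1)
  exact Module.FinitePresentation.of_equiv (R := Γ(X', D.1)) (LinearEquiv.ofBijective (appₗ π D.1) hbij)

/-- **Flattening by an admissible blow-up.** -/
theorem exists_blowUp_flat_fp (core : PrincipalFlattening.{u}) [CompactSpace S] [QuasiSeparatedSpace S]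
    [CompactSpace X] (U : S.Opens) (hU : IsCompact (U : Set S)) (hft : CohB1.IsFT F)
    (hfpU : CohB1.IsFP ((Scheme.Modules.pullback (f ⁻¹ᵁ U).ι).obj F))
    (hflU : ∀ x : X, f.base x ∈ U → FlatMod.IsFlatOverAt f F x) :
    ∃ (𝓘 : S.IdealSheafData) (S' : Scheme.{u}) (b : S' ⟶ S), BlowUp.IsBlowUp b 𝓘 ∧
      BlowUp.IsAdmissibleFor U 𝓘 ∧ (𝓘.support : Set S) = (U : Set S)ᶜ ∧
      ∀ (X' : Scheme.{u}) (p₁ : X' ⟶ X) (p₂ : X' ⟶ S'), IsPullback p₁ p₂ f b →
      ∀ (G : X'.Modules) (π : (Scheme.Modules.pullback p₁).obj F ⟶ G),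
        BlowUp.IsStrictTransform p₁ (𝓘.comap f) F G π → CohB1.IsFP G ∧ FlatMod.IsFlatOver p₂ G := by
  classical
  choose Fs hFs hcov using ContentBlowUp.exists_basic_cover (S := S) hU
  have hpt : ∀ x : X, ∃ (W : S.affineOpens) (V : X.affineOpens), x ∈ V.1 ∧ V.1 ≤ f ⁻¹ᵁ W.1 := fun x => by
    obtain ⟨W, hW, -⟩ := Divisors.exists_affine_le (f x) ⊤ trivial
    obtain ⟨V, hV, hle⟩ := Divisors.exists_affine_le x (f ⁻¹ᵁ W.1) hW
    exact ⟨W, V, hV, hle⟩
  choose WX VX hxV hVW using hpt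
  obtain ⟨sX, hsX⟩ := isCompact_univ.elim_finite_subcover (fun x : X => ((VX x).1 : Set X))
    (fun x => (VX x).1.isOpen) (fun x _ => Set.mem_iUnion.mpr ⟨x, hxV x⟩)
  obtain ⟨sS, hsS⟩ := isCompact_univ.elim_finite_subcover (fun W : S.affineOpens => (W.1 : Set S))
    (fun W => W.1.isOpen) (fun s _ => by
      obtain ⟨W, hsW, -⟩ := Divisors.exists_affine_le s ⊤ trivial
      exact Set.mem_iUnion.mpr ⟨W, hsW⟩)
  choose LX hLfg hLrad hLfl using fun x => exists_affine_ideal f F core hft hfpU hflU (Fs (WX x)) (hFs _) (hVW x)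
  let W : (↥sX ⊕ ↥sS) → S.affineOpens := Sum.elim (fun x => WX x.1) (fun W => W.1)
  let L : ∀ k, Ideal Γ(S, (W k).1)
    | Sum.inl x => LX x.1
    | Sum.inr V => Ideal.span (Fs V.1 : Set Γ(S, V.1.1))
  obtain ⟨𝓘, S', b, hb, hadm, hsupp, hflat⟩ := exists_blowUp_flat f F hU W
    (fun s => by
      obtain ⟨V, hV, hsV⟩ := Set.mem_iUnion₂.mp (hsS (Set.mem_univ s))
      exact ⟨Sum.inr ⟨V, hV⟩, hsV⟩)
    L (fun k => by
      cases k with
      | inl x => exact hLfg x.1
      | inr V => exact Submodule.fg_span (Finset.finite_toSet _))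
    (fun k => by
      have key : ∀ (V : S.affineOpens) (I : Ideal Γ(S, V.1)),
          I.radical = (Ideal.span (Fs V : Set Γ(S, V.1))).radical →
          ∀ y ∈ V.1, y ∈ U ↔ ∃ a ∈ I, y ∈ S.basicOpen a := fun V I hI y hy => by
        rw [exists_basicOpen_iff V.2 hI hy, exists_basicOpen_span_iff V.2 _ hy]
        exact ⟨hcov V y hy, fun ⟨g, hg, hyg⟩ => hFs V g hg hyg⟩
      cases k with
      | inl x => exact key _ _ (hLrad x.1)
      | inr V => exact key _ _ rfl)
    (fun x => by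
      obtain ⟨y, hy, hxy⟩ := Set.mem_iUnion₂.mp (hsX (Set.mem_univ x))
      exact ⟨Sum.inl ⟨y, hy⟩, VX y, hVW y, hxy, hLfl y⟩)
  refine ⟨𝓘, S', b, hb, hadm, hsupp, fun X' p₁ p₂ H G π hG => ?_⟩
  haveI := isQCoh_strictTransform H hb.1 hG
  have hfl := hflat X' p₁ p₂ H G π hG
  exact ⟨isFP_of_flat f H hft hfpU hsupp hb.1 hG hfl, hfl⟩

end Groth.RaynaudGruson.Flattening
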