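import Groth.Agent.RaynaudGruson.Flattening.Basic
import Groth.Agent.RefRank.BlowUpCharts
import Groth.Agent.Misc3Fitt.StrictAffine
import Groth.Agent.BlowUpBasics.AffineAlgebra

/-!
Flattening ideals: flat modules, passing through a blow-up of the base.
-/

set_option autoImplicit false
set_option linter.style.haveILetI false
universe u

namespace Groth.RaynaudGruson.Flattening

open TensorProduct

/-- The strict transform of a flat module is its base change, hence flat. -/
theorem flattens_of_flat {R : Type u} [CommRing R] (L : Ideal R) (M : Type u) [AddCommGroup M] [Module R M]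
    [Module.Flat R M] : Flattens L M := by
  intro R' _ _ τ hτ hI M' _ _ _ _ φ hφ
  haveI : Module.Flat R' M' := Module.Flat.isBaseChange R R' M M' hφ
  have hbot : tors M' τ = ⊥ := by
    rw [eq_bot_iff]
    rintro m ⟨n, hn⟩
    exact Module.Flat.isSMulRegular_of_nonZeroDivisors (pow_mem hτ n) (hn.trans (smul_zero _).symm)
  exact Module.Flat.of_linearEquiv (Submodule.quotEquivOfEqBot _ hbot)

section Trans

variable {R : Type u} [CommRing R] {M N : Type u} [AddCommGroup M] [Module R M] [AddCommGroup N] [Module R N]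

/-- A surjection with torsion kernel identifies the torsion free quotients. -/
theorem nonempty_quotTorsEquiv (f : M →ₗ[R] N) (hf : Function.Surjective f) {τ : R}
    (hker : LinearMap.ker f ≤ tors M τ) : Nonempty ((M ⧸ tors M τ) ≃ₗ[R] (N ⧸ tors N τ)) := by
  have hcomap : (tors N τ).comap f = tors M τ := by
    refine le_antisymm (fun m hm => ?_) fun m ⟨n, hn⟩ => ⟨n, by rw [← map_smul, hn, map_zero]⟩
    obtain ⟨n, hn⟩ := hm
    obtain ⟨k, hk⟩ := hker (show τ ^ n • m ∈ LinearMap.ker f by rw [LinearMap.mem_ker, map_smul]; exact hn)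
    exact ⟨k + n, by rw [pow_add, mul_smul]; exact hk⟩
  refine ⟨(Submodule.quotEquivOfEq _ _ ?_).trans (LinearMap.quotKerEquivOfSurjective ((tors N τ).mkQ ∘ₗ f)
    ((tors N τ).mkQ_surjective.comp hf))⟩
  rw [LinearMap.ker_comp, Submodule.ker_mkQ, hcomap]

/-- Base change of a map with torsion kernel has torsion kernel. -/
theorem ker_baseChange_le_tors {R' : Type u} [CommRing R'] [Algebra R R'] (f : M →ₗ[R] N)
    (hf : Function.Surjective f) {σ : R} (hker : LinearMap.ker f ≤ tors M σ) {τ : R'}
    (hτ : τ ∈ (Ideal.span {algebraMap R R' σ}).radical) :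
    LinearMap.ker (f.baseChange R') ≤ tors (R' ⊗[R] M) τ := by
  intro z hz
  obtain ⟨w, rfl⟩ := (lTensor_exact R' (LinearMap.exact_subtype_ker_map f) hf z).mp hz
  refine tors_le_of_mem_radical hτ ?_
  clear hz
  induction w with
  | zero => rw [map_zero]; exact zero_mem _
  | add a b ha hb => rw [map_add]; exact add_mem ha hb
  | tmul r m =>
    obtain ⟨n, hn⟩ := hker m.2
    refine ⟨n, ?_⟩
    rw [LinearMap.lTensor_tmul, Submodule.subtype_apply, ← map_pow, algebraMap_smul, ← TensorProduct.tmul_smul, hn,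
      TensorProduct.tmul_zero]

end Trans

theorem mem_radical_map {R R' : Type u} [CommRing R] [CommRing R'] [Algebra R R'] {I : Ideal R} {x : R}
    (h : x ∈ I.radical) : algebraMap R R' x ∈ (I.map (algebraMap R R')).radical :=
  Ideal.map_radical_le _ (Ideal.mem_map_of_mem _ h)

theorem radical_map_congr {R R' : Type u} [CommRing R] [CommRing R'] [Algebra R R'] {I J : Ideal R}
    (h : I.radical = J.radical) : (I.map (algebraMap R R')).radical = (J.map (algebraMap R R')).radical := by
  refine le_antisymm ?_ ?_ <;> rw [Ideal.radical_le_radical_iff] <;>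
    refine (Ideal.map_mono ?_).trans (Ideal.map_radical_le _)
  · rw [← h]; exact Ideal.le_radical
  · rw [h]; exact Ideal.le_radical

theorem radical_pow_eq {R : Type u} [CommRing R] (I : Ideal R) {n : ℕ} (hn : n ≠ 0) : (I ^ n).radical = I.radical :=
  Ideal.radical_pow I hn

/-- An ideal of a chart of the blow-up comes, up to a power of the exceptional element, from the base. -/
theorem exists_pullback_chart {R : Type u} [CommRing R] (K : Ideal R) (hK : K.FG) {x : R} (hx : x ∈ K)
    {Rx : Type u} [CommRing Rx] [Algebra R Rx] (E : Rx ≃ₐ[R] BlowUp.affineAlgebra R K x)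
    (hspan : K.map (algebraMap R Rx) = Ideal.span {algebraMap R Rx x}) {Lx : Ideal Rx} (hLx : Lx.FG)
    (hrad : algebraMap R Rx x ∈ Lx.radical) :
    ∃ (m e : ℕ) (Lt : Ideal R), Lt.FG ∧ K ^ e ≤ Lt ∧
      Lt.map (algebraMap R Rx) = Ideal.span {algebraMap R Rx x ^ m} * Lx := by
  classical
  obtain ⟨s, hs⟩ := hLx
  obtain ⟨N, hN⟩ := hrad
  have hex : ∀ z : s, ∃ (m : ℕ) (c : R), algebraMap R Rx c = algebraMap R Rx x ^ m * (z : Rx) := fun z => by
    obtain ⟨m, c, -, hc⟩ := RefRank.BlowChart.exists_pow_mul_mem K hx (E z)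
    exact ⟨m, c, E.injective (by rw [map_mul, map_pow, AlgEquiv.commutes, AlgEquiv.commutes, hc])⟩
  choose m c hc using hex
  let m₀ := Finset.univ.sup m
  let C₀ : Finset R := Finset.univ.image fun z => x ^ (m₀ - m z) * c z
  refine ⟨m₀, m₀ + N, Ideal.span (C₀ : Set R) ⊔ K ^ (m₀ + N), Submodule.FG.sup ⟨C₀, rfl⟩ ?_, le_sup_right, ?_⟩
  · exact Submodule.FG.pow hK _
  have hCmap : ∀ z : s, algebraMap R Rx (x ^ (m₀ - m z) * c z) = algebraMap R Rx x ^ m₀ * (z : Rx) := fun z => by
    rw [map_mul, map_pow, hc, ← mul_assoc, ← pow_add,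
      Nat.sub_add_cancel (Finset.le_sup (f := m) (Finset.mem_univ z))]
  refine le_antisymm ?_ ?_
  · rw [Ideal.map_sup, sup_le_iff, Ideal.map_pow, hspan, Ideal.span_singleton_pow,
      Ideal.map_span, Ideal.span_le, Ideal.span_singleton_le_iff_mem]
    refine ⟨?_, ?_⟩
    · rintro _ ⟨_, hy, rfl⟩
      obtain ⟨z, -, rfl⟩ := Finset.mem_image.mp hy
      rw [SetLike.mem_coe, hCmap]
      exact Ideal.mul_mem_mul (Ideal.mem_span_singleton_self _) (hs.le (Submodule.subset_span z.2))
    · rw [pow_add]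
      exact Ideal.mul_mem_mul (Ideal.mem_span_singleton_self _) hN
  · rw [← hs, Ideal.span_mul_span', Ideal.span_le]
    rintro _ ⟨_, rfl, z, hz, rfl⟩
    show algebraMap R Rx x ^ m₀ * z ∈ _
    rw [← hCmap ⟨z, hz⟩]
    exact Ideal.mem_map_of_mem _ (Ideal.mem_sup_left
      (Ideal.subset_span (Finset.mem_image.mpr ⟨⟨z, hz⟩, Finset.mem_univ _, rfl⟩)))

theorem radical_mul_prod {R : Type u} [CommRing R] {ι : Type u} [Fintype ι] (K : Ideal R) (Lt : ι → Ideal R)
    (e : ι → ℕ) (h : ∀ i, K ^ e i ≤ Lt i) : (K * ∏ i, Lt i).radical = K.radical := by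
  refine le_antisymm (Ideal.radical_mono Ideal.mul_le_left) ?_
  rw [Ideal.radical_le_radical_iff]
  intro z hz
  exact ⟨(∑ i, e i) + 1, by
    rw [pow_succ']
    refine Ideal.mul_mem_mul hz ?_
    rw [← Finset.prod_pow_eq_pow_sum]
    exact Ideal.prod_mem_prod fun i _ => h i (Ideal.pow_mem_pow hz _)⟩

/-- Flattenable after a blow-up of the base implies flattenable. -/
theorem flattenable_of_blowUp {R : Type u} [CommRing R] (J : Ideal R) (M : Type u) [AddCommGroup M] [Module R M]
    (G : Finset R) (hrad : (Ideal.span (G : Set R)).radical = J.radical)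
    (h : ∀ x ∈ G, ∀ (Rx : Type u) [CommRing Rx] [Algebra R Rx],
      algebraMap R Rx x ∈ nonZeroDivisors Rx →
      (Ideal.span (G : Set R)).map (algebraMap R Rx) = Ideal.span {algebraMap R Rx x} →
      Nonempty (Rx ≃ₐ[R] BlowUp.affineAlgebra R (Ideal.span (G : Set R)) x) →
      Flattenable (Ideal.span {algebraMap R Rx x})
        ((Rx ⊗[R] M) ⧸ tors (Rx ⊗[R] M) (algebraMap R Rx x))) :
    Flattenable J M := by
  classical
  set K := Ideal.span (G : Set R) with hKdef
  have hxK : ∀ x : G, (x : R) ∈ K := fun x => Ideal.subset_span x.2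
  have hcopy : ∀ x : G, ∃ (Rx : Type u) (_ : CommRing Rx) (_ : Algebra R Rx),
      Nonempty (Rx ≃ₐ[R] BlowUp.affineAlgebra R K x) := fun x => ⟨_, inferInstance, inferInstance, ⟨AlgEquiv.refl⟩⟩
  choose C _ _ hC using hcopy
  let E := fun x => (hC x).some
  have hnzd : ∀ x : G, algebraMap R (C x) x ∈ nonZeroDivisors (C x) := fun x => Misc3Fitt.copy_nzd (E x)
  have hspan : ∀ x : G, K.map (algebraMap R (C x)) = Ideal.span {algebraMap R (C x) x} := fun x =>
    le_antisymm (Ideal.map_le_iff_le_comap.2 fun z hz => Misc3Fitt.copy_mem_span (E x) hz)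
      ((Ideal.span_singleton_le_iff_mem _).mpr (Ideal.mem_map_of_mem _ (hxK x)))
  choose Lx hLfg hLrad hLfl using fun x : G => h x x.2 (C x) (hnzd x) (hspan x) (hC x)
  -- pull the ideals of the charts back to the base
  have hlift : ∀ x : G, ∃ (m e : ℕ) (Lt : Ideal R), Lt.FG ∧ K ^ e ≤ Lt ∧
      Lt.map (algebraMap R (C x)) = Ideal.span {algebraMap R (C x) x ^ m} * Lx x := fun x =>
    exists_pullback_chart K (Submodule.fg_span G.finite_toSet) (hxK x) (E x) (hspan x) (hLfg x)
      ((hLrad x).symm ▸ Ideal.le_radical (Ideal.mem_span_singleton_self _))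
  choose m e Lt hLtfg hLte hLtmap using hlift
  let L := K * ∏ x, Lt x
  have hKL : L.radical = K.radical := radical_mul_prod K Lt e hLte
  refine ⟨L, (Submodule.fg_span G.finite_toSet).mul
    (Finset.prod_induction _ (fun I : Ideal R => I.FG) (fun a b ha hb => ha.mul hb)
      (by rw [Ideal.one_eq_top]; exact Module.Finite.fg_top) fun x _ => hLtfg x), hKL.trans hrad,
    fun R' _ _ τ hτ hI M' _ _ _ _ φ hφ => ?_⟩
  have hKloc : LocPrincipal (K.map (algebraMap R R')) := by
    refine locPrincipal_of_mul (J := (∏ x, Lt x).map (algebraMap R R')) ?_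
    rw [← Ideal.map_mul, show K * ∏ x, Lt x = L from rfl, hI]
    exact locPrincipal_span hτ
  have hradτ : (K.map (algebraMap R R')).radical = (Ideal.span {τ}).radical := by
    rw [← hI]; exact radical_map_congr hKL.symm
  refine flat_descend (R := R') (A := R') fun P hP _ => ?_
  obtain ⟨g, hg, σ, hσ, hKσ⟩ := hKloc.exists_away P
  let R'' := Localization.Away g
  have hdisj : Disjoint (↑(Submonoid.powers g) : Set R') (P : Set R') :=
    Set.disjoint_left.mpr fun z ⟨n, hn⟩ hz => hg (hP.mem_of_pow_mem n ((show g ^ n = z from hn) ▸ hz))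
  let P'' := P.map (algebraMap R' R'')
  haveI hP'' : P''.IsPrime := IsLocalization.isPrime_of_isPrime_disjoint (Submonoid.powers g) R'' P hP hdisj
  haveI : Module.Flat R' R'' := IsLocalization.flat R'' (Submonoid.powers g)
  rw [Ideal.map_map, ← IsScalarTower.algebraMap_eq] at hKσ
  -- some generator generates near `P`
  obtain ⟨x, c, hcP, hxc⟩ : ∃ (x : G) (c : R''), c ∉ P'' ∧ algebraMap R R'' x = c * σ := by
    by_contra hcon
    push Not at hcon
    have hle : K.map (algebraMap R R'') ≤ P'' * Ideal.span {σ} := by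
      rw [hKdef, Ideal.map_span, Ideal.span_le]
      rintro _ ⟨x, hx, rfl⟩
      obtain ⟨c, hc⟩ := Ideal.mem_span_singleton'.mp (hKσ.le (Ideal.mem_map_of_mem (algebraMap R R'') (hxK ⟨x, hx⟩)))
      rw [SetLike.mem_coe, ← hc]
      refine Ideal.mul_mem_mul ?_ (Ideal.mem_span_singleton_self σ)
      by_contra hcP
      exact hcon ⟨x, hx⟩ c hcP hc.symm
    obtain ⟨c, hc, hcσ⟩ := Ideal.mem_mul_span_singleton.mp (hle (hKσ ▸ Ideal.mem_span_singleton_self σ))
    have : c = 1 := sub_eq_zero.mp ((mem_nonZeroDivisors_iff_right.mp hσ) _ (by rw [sub_mul, one_mul, hcσ, sub_self]))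
    exact hP''.ne_top ((Ideal.eq_top_iff_one _).2 (this ▸ hc))
  obtain ⟨T, _, _, hTloc⟩ : ∃ (T : Type u) (_ : CommRing T) (_ : Algebra R'' T), IsLocalization.Away c T :=
    ⟨Localization.Away c, inferInstance, inferInstance, inferInstance⟩
  letI algR'T : Algebra R' T := ((algebraMap R'' T).comp (algebraMap R' R'')).toAlgebra
  haveI : IsScalarTower R' R'' T := IsScalarTower.of_algebraMap_eq fun _ => rfl
  letI algRT : Algebra R T := ((algebraMap R' T).comp (algebraMap R R')).toAlgebra
  haveI : IsScalarTower R R' T := IsScalarTower.of_algebraMap_eq fun _ => rfl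
  haveI : IsScalarTower R R'' T := IsScalarTower.of_algebraMap_eq fun r => by
    show algebraMap R'' T (algebraMap R' R'' (algebraMap R R' r)) = _
    rw [← IsScalarTower.algebraMap_apply R R' R'']
  have hdisj' : Disjoint (↑(Submonoid.powers c) : Set R'') (P'' : Set R'') :=
    Set.disjoint_left.mpr fun z ⟨n, hn⟩ hz => hcP (hP''.mem_of_pow_mem n ((show c ^ n = z from hn) ▸ hz))
  haveI : Module.Flat R'' T := IsLocalization.flat T (Submonoid.powers c)
  haveI hflT : Module.Flat R' T := Module.Flat.trans R' R'' T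
  refine ⟨T, inferInstance, inferInstance, inferInstance, inferInstance, hflT,
    ⟨P''.map (algebraMap R'' T), IsLocalization.isPrime_of_isPrime_disjoint (Submonoid.powers c) T P'' hP'' hdisj', by
      rw [IsScalarTower.algebraMap_eq R' R'' T, ← Ideal.comap_comap]
      rw [show Ideal.comap (algebraMap R'' T) (Ideal.map (algebraMap R'' T) P'') = P'' from
        IsLocalization.under_map_of_isPrime_disjoint (Submonoid.powers c) T hP'' hdisj']
      exact IsLocalization.under_map_of_isPrime_disjoint (Submonoid.powers g) R'' hP hdisj⟩, ?_⟩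
  have hxnzd : algebraMap R T x ∈ nonZeroDivisors T := by
    rw [IsScalarTower.algebraMap_apply R R'' T, hxc, map_mul]
    refine mul_mem (IsLocalization.Away.algebraMap_isUnit (S := T) c).mem_nonZeroDivisors ?_
    exact Groth.Divisors.mem_nonZeroDivisors_of_flat (algebraMap R'' T) (RingHom.flat_algebraMap_iff.mpr inferInstance) hσ
  have hKT : K.map (algebraMap R T) = Ideal.span {algebraMap R T x} := by
    refine le_antisymm ?_ ((Ideal.span_singleton_le_iff_mem _).mpr (Ideal.mem_map_of_mem _ (hxK x)))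
    rw [IsScalarTower.algebraMap_eq R R'' T, ← Ideal.map_map, hKσ, Ideal.map_span, Set.image_singleton,
      Ideal.span_singleton_le_iff_mem, RingHom.comp_apply, hxc, map_mul]
    exact Ideal.mem_span_singleton'.mpr ⟨↑(IsLocalization.Away.algebraMap_isUnit (S := T) c).unit⁻¹, by
      rw [← mul_assoc, IsUnit.val_inv_mul, one_mul]⟩
  let Rx := C x
  obtain ⟨ψ₀, hψ₀⟩ := BlowUpBasics.exists_ringHom_lift (I := K) (algebraMap R T) hxnzd hKT.le
  let ψ : Rx →+* T := ψ₀.comp (E x).toRingEquiv.toRingHom
  have hψ : ψ.comp (algebraMap R Rx) = algebraMap R T := RingHom.ext fun r => by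
    show ψ₀ (E x (algebraMap R Rx r)) = _
    rw [AlgEquiv.commutes]; exact RingHom.congr_fun hψ₀ r
  letI algxT : Algebra Rx T := ψ.toAlgebra
  haveI : IsScalarTower R Rx T := IsScalarTower.of_algebraMap_eq fun r => (RingHom.congr_fun hψ r).symm
  let M₁ := Rx ⊗[R] M
  let N₁ := M₁ ⧸ tors M₁ (algebraMap R Rx x)
  -- the test of the chart
  have hLloc : LocPrincipal ((Lx x).map (algebraMap Rx T)) := by
    refine locPrincipal_of_mul (J := (Ideal.span {algebraMap R Rx x ^ m x}).map (algebraMap Rx T)) ?_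
    rw [← Ideal.map_mul, mul_comm, ← hLtmap, Ideal.map_map, ← IsScalarTower.algebraMap_eq R Rx T]
    refine locPrincipal_of_mul (J := (K * ∏ y ∈ Finset.univ.erase x, Lt y).map (algebraMap R T)) ?_
    rw [← Ideal.map_mul, mul_left_comm, Finset.mul_prod_erase _ _ (Finset.mem_univ x),
      IsScalarTower.algebraMap_eq R R' T, ← Ideal.map_map, hI]
    exact (locPrincipal_span hτ).map
  have hradx : ((Lx x).map (algebraMap Rx T)).radical = (Ideal.span {algebraMap R T x}).radical := by
    rw [radical_map_congr (hLrad x), Ideal.map_span, Set.image_singleton, ← IsScalarTower.algebraMap_apply]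
  have hτx : (Ideal.span {algebraMap R T x}).radical = (Ideal.span {algebraMap R' T τ}).radical := by
    rw [← hKT, ← Set.image_singleton, ← Ideal.map_span, IsScalarTower.algebraMap_eq R R' T, ← Ideal.map_map]
    exact radical_map_congr (R' := T) hradτ
  let M'' := T ⊗[R'] M'
  let ψ'' : M' →ₗ[R'] M'' := TensorProduct.mk R' T M' 1
  have hψ'' : IsBaseChange T ψ'' := TensorProduct.isBaseChange R' M' T
  have hφT := hφ.comp hψ''
  haveI : IsScalarTower Rx T M'' := inferInstance
  haveI : IsScalarTower R Rx M'' := IsScalarTower.of_algebraMap_smul fun r z => by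
    rw [← algebraMap_smul T (algebraMap R Rx r) z, ← IsScalarTower.algebraMap_apply, algebraMap_smul]
  let χ := (TensorProduct.isBaseChange R M Rx).lift ((ψ''.restrictScalars R) ∘ₗ φ)
  have hχ : IsBaseChange T χ := by
    refine IsBaseChange.of_comp (TensorProduct.isBaseChange R M Rx) ?_
    have : (χ.restrictScalars R) ∘ₗ (TensorProduct.mk R Rx M 1) = (ψ''.restrictScalars R) ∘ₗ φ :=
      (TensorProduct.isBaseChange R M Rx).lift_comp _
    rw [this]; exact hφT
  let f : M'' →ₗ[T] T ⊗[Rx] N₁ :=
    ((tors M₁ (algebraMap R Rx x)).mkQ.baseChange T) ∘ₗ hχ.equiv.symm.toLinearMap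
  have hf : Function.Surjective f :=
    (LinearMap.lTensor_surjective T (Submodule.mkQ_surjective _)).comp hχ.equiv.symm.surjective
  have hker : LinearMap.ker f ≤ tors M'' (algebraMap R' T τ) := by
    intro z hz
    obtain ⟨n, hn⟩ := ker_baseChange_le_tors (R' := T) (τ := algebraMap R' T τ)
      (tors M₁ (algebraMap R Rx x)).mkQ (Submodule.mkQ_surjective _) (Submodule.ker_mkQ _).le (by
        rw [← IsScalarTower.algebraMap_apply, hτx]
        exact Ideal.le_radical (Ideal.mem_span_singleton_self _)) hz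
    exact ⟨n, hχ.equiv.symm.injective (by rw [map_smul, map_zero]; exact hn)⟩
  obtain ⟨eN⟩ := nonempty_quotTorsEquiv (R := T) (M := M'') (N := T ⊗[Rx] N₁) f hf (τ := algebraMap R' T τ) hker
  have hflat : Module.Flat T ((T ⊗[Rx] N₁) ⧸ tors (T ⊗[Rx] N₁) (algebraMap R' T τ)) :=
    (hLfl x).flat_of_locPrincipal hLloc (hradx.trans hτx) (TensorProduct.mk Rx T N₁ 1)
      (TensorProduct.isBaseChange Rx N₁ T)
  haveI : Module.Flat T (M'' ⧸ tors M'' (algebraMap R' T τ)) := Module.Flat.of_linearEquiv eN
  have hb := isBaseChange_torsMap (τ := τ) hψ'' (tensor_tors_free_of_flat_algebra (τ := τ))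
  haveI : Module.Flat T (T ⊗[R'] (M' ⧸ tors M' τ)) := Module.Flat.of_linearEquiv hb.equiv
  exact Module.Flat.trans R' T (T ⊗[R'] (M' ⧸ tors M' τ))

end Groth.RaynaudGruson.Flattening
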